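import Groth.Agent.Lib.HProj.Main

/-!
# Affine pieces of a closed subscheme of a fibre product
-/

noncomputable section

universe u

open CategoryTheory CategoryTheory.Limits AlgebraicGeometry TopologicalSpace Opposite

namespace Groth.Agent.Lib.PProj

theorem affine_and_gen {Z A B S : Scheme.{u}} (p : Z ⟶ A) (q : Z ⟶ B) (fA : A ⟶ S) (fB : B ⟶ S)
    (hcomm : p ≫ fA = q ≫ fB) (hk : IsClosedImmersion (pullback.lift p q hcomm))
    {L : A.Opens} (hL : IsAffineOpen L) {V : B.Opens} (hV : IsAffineOpen V) {U : S.Opens} (hU : IsAffineOpen U)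
    (hLU : L ≤ fA ⁻¹ᵁ U) (hVU : V ≤ fB ⁻¹ᵁ U) :
    IsAffineOpen (p ⁻¹ᵁ L ⊓ q ⁻¹ᵁ V) ∧
      Subring.closure (Set.range (p.appLE L (p ⁻¹ᵁ L ⊓ q ⁻¹ᵁ V) inf_le_left) ∪
        Set.range (q.appLE V (p ⁻¹ᵁ L ⊓ q ⁻¹ᵁ V) inf_le_right)) = ⊤ := by
  haveI : IsAffine (L : Scheme.{u}) := hL
  haveI : IsAffine (V : Scheme.{u}) := hV
  haveI : IsAffine (U : Scheme.{u}) := hU
  let a : (L : Scheme.{u}) ⟶ (U : Scheme.{u}) := fA.resLE U L hLU
  let b : (V : Scheme.{u}) ⟶ (U : Scheme.{u}) := fB.resLE U V hVU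
  have ha : a ≫ U.ι = L.ι ≫ fA := Scheme.Hom.resLE_comp_ι _ _
  have hb : b ≫ U.ι = V.ι ≫ fB := Scheme.Hom.resLE_comp_ι _ _
  let k : Z ⟶ pullback fA fB := pullback.lift p q hcomm
  let μ : pullback a b ⟶ pullback fA fB := pullback.map a b fA fB L.ι V.ι U.ι ha hb
  haveI : IsOpenImmersion μ := Scheme.pullback_map_isOpenImmersion _ _ _ _ _ _ _ _ _
  let W : Z.Opens := p ⁻¹ᵁ L ⊓ q ⁻¹ᵁ V
  have hrange : k ⁻¹ᵁ μ.opensRange = W := by
    ext x
    have hμ : Set.range μ = _ := Scheme.Pullback.range_map a b fA fB L.ι V.ι U.ι ha hb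
    show k x ∈ Set.range μ ↔ p x ∈ L ∧ q x ∈ V
    rw [hμ]
    simp only [Set.mem_inter_iff, Set.mem_preimage, Scheme.Opens.range_ι]
    simp only [k, ← Scheme.Hom.comp_apply, pullback.lift_fst, pullback.lift_snd]
    rfl
  haveI : IsAffineHom k := inferInstance
  have haff : IsAffineOpen W := by rw [← hrange]; exact (isAffineOpen_opensRange μ).preimage k
  refine ⟨haff, ?_⟩
  haveI : IsAffine (W : Scheme.{u}) := haff
  let pL : (W : Scheme.{u}) ⟶ (L : Scheme.{u}) := p.resLE L W inf_le_left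
  let qV : (W : Scheme.{u}) ⟶ (V : Scheme.{u}) := q.resLE V W inf_le_right
  let c : (W : Scheme.{u}) ⟶ pullback a b := pullback.lift pL qV (by
    rw [← cancel_mono U.ι, Category.assoc, Category.assoc, ha, hb, Scheme.Hom.resLE_comp_ι_assoc,
      Scheme.Hom.resLE_comp_ι_assoc, hcomm])
  have hc : c ≫ μ = W.ι ≫ k := by
    have e1 : μ ≫ pullback.fst _ _ = pullback.fst a b ≫ L.ι := pullback.lift_fst _ _ _
    have e2 : μ ≫ pullback.snd _ _ = pullback.snd a b ≫ V.ι := pullback.lift_snd _ _ _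
    apply pullback.hom_ext
    · refine (Category.assoc _ _ _).trans (Eq.trans ?_ (Category.assoc _ _ _).symm)
      refine (congrArg (c ≫ ·) e1).trans ((pullback.lift_fst_assoc _ _ _ _).trans ?_)
      simp only [pL, k, Category.assoc, pullback.lift_fst, Scheme.Hom.resLE_comp_ι]
    · refine (Category.assoc _ _ _).trans (Eq.trans ?_ (Category.assoc _ _ _).symm)
      refine (congrArg (c ≫ ·) e2).trans ((pullback.lift_snd_assoc _ _ _ _).trans ?_)
      simp only [qV, k, Category.assoc, pullback.lift_snd, Scheme.Hom.resLE_comp_ι]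
  have hpb : IsPullback c W.ι μ k :=
    IsOpenImmersion.isPullback _ _ _ _ hc.symm (by rw [Scheme.Opens.opensRange_ι]; exact hrange)
  haveI : IsClosedImmersion c := MorphismProperty.of_isPullback hpb.flip hk
  have hsurj : Function.Surjective c.appTop := (IsClosedImmersion.isAffine_surjective_of_isAffine c).2
  have hpush := HProj.closure_ranges_of_isPushout (isPushout_appTop_of_isPullback (IsPullback.of_hasPullback a b))
  refine eq_top_iff.2 fun x _ => ?_
  let T := Subring.closure (Set.range (p.appLE L W inf_le_left) ∪ Set.range (q.appLE V W inf_le_right))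
  show x ∈ T
  obtain ⟨z, hz⟩ := hsurj (W.topIso.inv x)
  have hx : x = W.topIso.hom (c.appTop z) := by
    rw [hz, ← CommRingCat.comp_apply, Iso.inv_hom_id]; rfl
  let ρ : Γ(pullback a b, ⊤) →+* Γ(Z, W) := W.topIso.hom.hom.comp c.appTop.hom
  suffices hρ : Set.range (pullback.fst a b).appTop ∪ Set.range (pullback.snd a b).appTop ⊆ T.comap ρ by
    rw [hx]
    exact Subring.mem_comap.1 ((Subring.closure_le.2 hρ) (hpush.ge (Subring.mem_top z)))
  rintro _ (⟨y, rfl⟩ | ⟨y, rfl⟩)
  · show W.topIso.hom (c.appTop ((pullback.fst a b).appTop y)) ∈ T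
    rw [← CommRingCat.comp_apply (pullback.fst a b).appTop, ← Scheme.Hom.comp_appTop, pullback.lift_fst]
    refine Subring.subset_closure (Or.inl ⟨L.topIso.hom y, ?_⟩)
    have e : pL.appTop = L.topIso.hom ≫ p.appLE L W inf_le_left ≫ W.topIso.inv := Scheme.Hom.resLE_app_top p _
    rw [e]
    simp only [CommRingCat.hom_comp, RingHom.comp_apply]
    exact (DFunLike.congr_fun (congrArg CommRingCat.Hom.hom W.topIso.inv_hom_id) _).symm
  · show W.topIso.hom (c.appTop ((pullback.snd a b).appTop y)) ∈ T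
    rw [← CommRingCat.comp_apply (pullback.snd a b).appTop, ← Scheme.Hom.comp_appTop, pullback.lift_snd]
    refine Subring.subset_closure (Or.inr ⟨V.topIso.hom y, ?_⟩)
    have e : qV.appTop = V.topIso.hom ≫ q.appLE V W inf_le_right ≫ W.topIso.inv := Scheme.Hom.resLE_app_top q _
    rw [e]
    simp only [CommRingCat.hom_comp, RingHom.comp_apply]
    exact (DFunLike.congr_fun (congrArg CommRingCat.Hom.hom W.topIso.inv_hom_id) _).symm

end Groth.Agent.Lib.PProj
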