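import Groth.Agent.Lib.PProj.Chart
import Mathlib.AlgebraicGeometry.Morphisms.Finite

/-!
# Finite morphisms are projective
-/

noncomputable section

universe u

open CategoryTheory AlgebraicGeometry TopologicalSpace Opposite

namespace Groth.Agent.Lib.PProj

variable {X S : Scheme.{u}} (f : X ⟶ S) [IsFinite f]

theorem exists_gens {U : S.Opens} (hU : IsAffineOpen U) :
    ∃ (n : ℕ) (b : Fin (n + 1) → Γ(X, f ⁻¹ᵁ U)), b 0 = 1 ∧
      ∀ x, ∃ l : Fin (n + 1) → Γ(S, U), x = ∑ k, f.app U (l k) * b k := by
  classical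
  letI := (f.app U).hom.toAlgebra
  haveI : Module.Finite Γ(S, U) Γ(X, f ⁻¹ᵁ U) := IsFinite.finite_app f U hU
  obtain ⟨T, hT⟩ := Module.finite_def.1 (inferInstance : Module.Finite Γ(S, U) Γ(X, f ⁻¹ᵁ U))
  refine ⟨T.card, Fin.cons 1 fun i => (T.equivFin.symm i).1, rfl, fun x => ?_⟩
  have hx : x ∈ Submodule.span Γ(S, U) (T : Set Γ(X, f ⁻¹ᵁ U)) := hT ▸ Submodule.mem_top
  rw [Submodule.mem_span_finset] at hx
  obtain ⟨c, -, hc⟩ := hx
  refine ⟨Fin.cons 0 fun i => c (T.equivFin.symm i).1, ?_⟩
  rw [← hc, Fin.sum_univ_succ]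
  simp only [Fin.cons_zero, map_zero, zero_mul, zero_add, Fin.cons_succ]
  rw [← Finset.sum_coe_sort, ← Equiv.sum_comp T.equivFin.symm]
  exact Finset.sum_congr rfl fun i _ => Algebra.smul_def _ _

/-- The system of module generators. -/
def finiteSys {U : S.Opens} (hU : IsAffineOpen U) : Sys f (fun _ : PUnit.{u + 1} => (⊤ : X.Opens)) U :=
  let n := (exists_gens f hU).choose
  let b := (exists_gens f hU).choose_spec.choose
  { n := n + 1
    c := fun j _ => rX inf_le_right (b j)
    L := fun j => X.basicOpen (b j)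
    L_le := fun j => X.basicOpen_le _
    affine := fun j => (hU.preimage f).basicOpen _
    cover := fun x hx => Opens.mem_iSup.2 ⟨(0 : Fin (n + 1)), by
      rw [show b 0 = 1 from (exists_gens f hU).choose_spec.choose_spec.1, Scheme.basicOpen_of_isUnit _ isUnit_one]
      exact hx⟩
    L_inf := fun j _ => by
      rw [basicOpen_rX, inf_top_eq]
      exact (inf_eq_right.2 ((X.basicOpen_le _).trans (le_inf le_top le_rfl))).symm
    u := fun j k => rX (X.basicOpen_le _) (b k) *
      ↑(isUnit_rX (X.basicOpen_le (b j)) (le_refl (X.basicOpen (b j)))).unit⁻¹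
    rel := fun j k _ => by
      have h1 := (isUnit_rX (X.basicOpen_le (b j)) (le_refl (X.basicOpen (b j)))).val_inv_mul
      have h2 := congrArg (rX (inf_le_left : X.basicOpen (b j) ⊓ ⊤ ≤ X.basicOpen (b j))) h1
      simp only [map_mul, map_one, rX_rX] at h2 ⊢
      rw [mul_assoc, h2, mul_one]
    gen := fun j => by
      let B := X.basicOpen (b j)
      let hB : B ≤ f ⁻¹ᵁ U := X.basicOpen_le _
      let v : Γ(X, B) := ↑(isUnit_rX hB (le_refl B)).unit⁻¹
      have hv : rX hB (b j) * v = 1 := (isUnit_rX hB (le_refl B)).mul_val_inv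
      set R0 := Subring.closure (Set.range (f.appLE U B hB) ∪ Set.range fun k => rX hB (b k) * v) with hR0
      have hb0 : b 0 = 1 := (exists_gens f hU).choose_spec.choose_spec.1
      have hvR : v ∈ R0 := Subring.subset_closure (Or.inr ⟨(0 : Fin (n + 1)), by simp [hb0]⟩)
      have himg : ∀ x, rX hB x ∈ R0 := fun x => by
        obtain ⟨l, hl⟩ := (exists_gens f hU).choose_spec.choose_spec.2 (x * b j)
        have e : rX hB x = ∑ k, f.appLE U B hB (l k) * (rX hB (b k) * v) := by
          calc rX hB x = rX hB (x * b j) * v := by rw [map_mul, mul_assoc, hv, mul_one]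
            _ = _ := by
              rw [hl, map_sum, Finset.sum_mul]
              refine Finset.sum_congr rfl fun k _ => ?_
              rw [map_mul, mul_assoc]
              refine congrArg (· * _) ?_
              simp only [rX]
              rw [← CommRingCat.comp_apply, Scheme.Hom.app_eq_appLE, Scheme.Hom.appLE_map]
        rw [e]
        exact sum_mem fun k _ => mul_mem (Subring.subset_closure (Or.inl ⟨_, rfl⟩))
          (Subring.subset_closure (Or.inr ⟨k, rfl⟩))
      show R0 = ⊤
      refine eq_top_iff.2 fun z _ => ?_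
      let := (rX hB).toAlgebra
      haveI : IsLocalization.Away (b j) Γ(X, B) := (hU.preimage f).isLocalization_basicOpen (b j)
      obtain ⟨m, w, hw⟩ := IsLocalization.Away.surj (b j) z
      change z * rX hB (b j) ^ m = rX hB w at hw
      have : z = rX hB w * v ^ m := by rw [← hw, mul_assoc, ← mul_pow, hv, one_pow, mul_one]
      rw [this]
      exact mul_mem (himg w) (pow_mem hvR m) }

theorem nonempty_pdata_of_isFinite : Nonempty (PData f) := by
  refine ⟨{
    I := PUnit.{u + 1}
    P := fun _ => (⊤ : X.Opens)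
    P_cover := fun x => ⟨⟨⟩, Opens.mem_top x⟩
    J := S.affineOpens
    U := fun β => β.1
    affine := fun β => β.2
    cover := fun y => ?_
    sys := fun β => finiteSys f β.2
    compat := fun β γ j y hy hy' => ?_ }⟩
  · obtain ⟨V, hV, hyV, -⟩ := exists_isAffineOpen_mem_and_subset (X := S) (x := y) (U := ⊤) (Opens.mem_top y)
    exact ⟨⟨V, hV⟩, hyV⟩
  · obtain ⟨g, hg, hyg⟩ := β.2.exists_basicOpen_le (V := γ.1) ⟨y, hy'⟩ hy
    let hle : S.basicOpen g ≤ β.1 := S.basicOpen_le g
    obtain ⟨b, -, hb⟩ := (exists_gens f β.2).choose_spec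
    let B := (exists_gens f β.2).choose_spec.choose
    have hB := (exists_gens f β.2).choose_spec.choose_spec.2
    let := (rX (f.preimage_mono hle)).toAlgebra
    haveI : IsLocalization.Away (f.app β.1 g) Γ(X, f ⁻¹ᵁ S.basicOpen g) :=
      (β.2.preimage f).isLocalization_of_eq_basicOpen _ (homOfLE (f.preimage_mono hle))
        (Scheme.preimage_basicOpen f g)
    let z := rX (f.preimage_mono hg) ((exists_gens f γ.2).choose_spec.choose j)
    obtain ⟨m, x, hx⟩ := IsLocalization.Away.surj (f.app β.1 g) z
    obtain ⟨l, hl⟩ := hB x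
    obtain ⟨v, hv⟩ := (isUnit_rX hle (le_refl (S.basicOpen g))).exists_right_inv
    refine ⟨S.basicOpen g, hle, hg, hyg, fun k => v ^ m * rX hle (l k), funext fun a => ?_⟩
    have hnat : ∀ r : Γ(S, β.1), rX (f.preimage_mono hle) (f.app β.1 r) = f.app (S.basicOpen g) (rX hle r) :=
      fun r => congr($((f.naturality (homOfLE hle).op).symm) r)
    have hone : f.app (S.basicOpen g) v * rX (f.preimage_mono hle) (f.app β.1 g) = 1 := by
      rw [hnat, ← map_mul, mul_comm]
      exact (congrArg (f.app (S.basicOpen g)) hv).trans (map_one _)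
    have e : z = ∑ k, f.app (S.basicOpen g) (v ^ m * rX hle (l k)) * rX (f.preimage_mono hle) (B k) := by
      change z * rX (f.preimage_mono hle) (f.app β.1 g) ^ m = rX (f.preimage_mono hle) x at hx
      calc z = f.app (S.basicOpen g) v ^ m * (z * rX (f.preimage_mono hle) (f.app β.1 g) ^ m) := by
            rw [mul_comm z, ← mul_assoc, ← mul_pow, hone, one_pow, one_mul]
        _ = _ := by
            rw [hx, hl, map_sum, Finset.mul_sum]
            refine Finset.sum_congr rfl fun k _ => ?_
            rw [map_mul, map_mul, map_pow, hnat, mul_assoc]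
    have e2 := congrArg (rX (inf_le_right : piece f (fun _ : PUnit.{u+1} => (⊤ : X.Opens)) a (S.basicOpen g) ≤ _)) e
    simp only [z, map_sum, map_mul, rX_rX] at e2
    simp only [vres_apply, lin, finiteSys, rX_rX]
    refine e2.trans (Finset.sum_congr rfl fun k _ => congrArg (· * _) ?_)
    simp only [base, ← map_mul, rX]
    rw [← CommRingCat.comp_apply, Scheme.Hom.app_eq_appLE, Scheme.Hom.appLE_map]

end Groth.Agent.Lib.PProj
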