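import Groth.Agent.Lib.PProj.Main
import Groth.Agent.H97.GlueLine
import Groth.Agent.Lib.Ample.RelAmple
import Groth.Agent.Lib.ProjMor.Sec
import Groth.Agent.Lib.HProj.Proper

/-!
# The tautological invertible module of coordinate data

The ratios of coordinates on the overlaps of the pieces form a cocycle; the glued module is relatively ample.
-/

noncomputable section

universe u

open CategoryTheory AlgebraicGeometry TopologicalSpace Opposite

namespace Groth.Agent.Lib.PProj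

open H97.GlueLine TensorMod.Dual TensorMod.Gen TensorMod.Pullback

variable {X S : Scheme.{u}} {f : X ⟶ S} (D : PData f)

theorem isClosedImmersion_lift_id (g : X ⟶ S) :
    IsClosedImmersion (Limits.pullback.lift (𝟙 X) g (by simp : 𝟙 X ≫ g = g ≫ 𝟙 S)) := by
  haveI : IsClosedImmersion (Limits.pullback.lift (𝟙 X) g (by simp : 𝟙 X ≫ g = g ≫ 𝟙 S) ≫
      Limits.pullback.fst g (𝟙 S)) := by
    rw [Limits.pullback.lift_fst]; first | done | infer_instance
  exact IsClosedImmersion.of_comp _ (Limits.pullback.fst g (𝟙 S))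

namespace PData

/-- Coordinates are proportional. -/
theorem cross (β γ : D.J) (j : Fin (D.sys β).n) (k : Fin (D.sys γ).n) (a b : D.I) {W : X.Opens}
    (haβ : W ≤ piece f D.P a (D.U β)) (hbβ : W ≤ piece f D.P b (D.U β)) (haγ : W ≤ piece f D.P a (D.U γ))
    (hbγ : W ≤ piece f D.P b (D.U γ)) :
    rX haβ ((D.sys β).c j a) * rX hbγ ((D.sys γ).c k b) =
      rX haγ ((D.sys γ).c k a) * rX hbβ ((D.sys β).c j b) := by
  let ι' := {q : (Fin (D.sys β).n) × S.Opens // ∃ (hβ : q.2 ≤ D.U β) (hγ : q.2 ≤ D.U γ),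
    ∃ l : Fin (D.sys β).n → Γ(S, q.2), vres hγ ((D.sys γ).c k) = lin l fun i => vres hβ ((D.sys β).c i)}
  refine eq_of_cover (B := fun q : ι' => W ⊓ ((D.sys β).L q.1.1 ⊓ f ⁻¹ᵁ q.1.2)) (fun q => inf_le_left)
    (fun x hx => ?_) fun q => ?_
  · obtain ⟨m, hm⟩ := Opens.mem_iSup.1 ((D.sys β).cover (haβ hx).2)
    obtain ⟨V, hβ, hγ, hV, l, hl⟩ := D.compat β γ k (f x) (haβ hx).2 (haγ hx).2
    exact Opens.mem_iSup.2 ⟨⟨(m, V), hβ, hγ, l, hl⟩, hx, hm, hV⟩
  · obtain ⟨⟨m, V⟩, hβ, hγ, l, hl⟩ := q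
    set B := W ⊓ ((D.sys β).L m ⊓ f ⁻¹ᵁ V) with hB
    have hBm : ∀ c, (W ≤ piece f D.P c (D.U β)) → B ≤ (D.sys β).L m ⊓ D.P c := fun c hc =>
      le_inf (inf_le_right.trans inf_le_left) ((inf_le_left.trans hc).trans inf_le_left)
    have hBV : ∀ c, (W ≤ piece f D.P c (D.U β)) → B ≤ piece f D.P c V := fun c hc =>
      le_inf ((inf_le_left.trans hc).trans inf_le_left) (inf_le_right.trans inf_le_right)
    have hBL : B ≤ (D.sys β).L m := inf_le_right.trans inf_le_left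
    have key : ∀ c (hc : W ≤ piece f D.P c (D.U β)) (hc' : W ≤ piece f D.P c (D.U γ)) i,
        rX (inf_le_left.trans hc : B ≤ piece f D.P c (D.U β)) ((D.sys β).c i c) =
          rX hBL ((D.sys β).u m i) * rX (inf_le_left.trans hc : B ≤ piece f D.P c (D.U β)) ((D.sys β).c m c) := by
      intro c hc hc' i
      have h := congrArg (rX (hBm c hc)) ((D.sys β).rel' m i c)
      simp only [map_mul, rX_rX] at h
      exact h
    let σ : Γ(X, B) := ∑ i, f.appLE V B (inf_le_right.trans inf_le_right) (l i) * rX hBL ((D.sys β).u m i)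
    have key2 : ∀ c (hc : W ≤ piece f D.P c (D.U β)) (hc' : W ≤ piece f D.P c (D.U γ)),
        rX (inf_le_left.trans hc' : B ≤ piece f D.P c (D.U γ)) ((D.sys γ).c k c) =
          σ * rX (inf_le_left.trans hc : B ≤ piece f D.P c (D.U β)) ((D.sys β).c m c) := by
      intro c hc hc'
      have h := congrArg (rX (hBV c hc)) (congrFun hl c)
      simp only [vres_apply, lin, map_sum, map_mul, rX_rX] at h
      rw [h, Finset.sum_mul]
      refine Finset.sum_congr rfl fun i _ => ?_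
      rw [key c hc hc' i, base, rX_appLE]
      ring
    simp only [map_mul, rX_rX]
    rw [key a haβ haγ j, key b hbβ hbγ j, key2 a haβ haγ, key2 b hbβ hbγ]
    ring

theorem exists_ratio (a b : D.I) : ∃ r : Γ(X, D.P a ⊓ D.P b), ∀ (β : D.J) (j : Fin (D.sys β).n) (W : X.Opens)
    (hW : W ≤ D.P a ⊓ D.P b) (ha : W ≤ piece f D.P a (D.U β)) (hb : W ≤ piece f D.P b (D.U β)),
    rX ha ((D.sys β).c j a) = rX hW r * rX hb ((D.sys β).c j b) := by
  let κ := Σ β : D.J, Fin (D.sys β).n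
  let B : κ → X.Opens := fun q => (D.sys q.1).L q.2 ⊓ (D.P a ⊓ D.P b)
  have hBle : ∀ q, B q ≤ D.P a ⊓ D.P b := fun q => inf_le_right
  have hcov : D.P a ⊓ D.P b ≤ ⨆ q, B q := fun x hx => by
    obtain ⟨β, hβ⟩ := D.cover (f x)
    obtain ⟨j, hj⟩ := Opens.mem_iSup.1 ((D.sys β).cover (show x ∈ f ⁻¹ᵁ D.U β from hβ))
    exact Opens.mem_iSup.2 ⟨⟨β, j⟩, hj, hx⟩
  have hpa : ∀ q : κ, B q ≤ piece f D.P a (D.U q.1) := fun q =>
    le_inf (inf_le_right.trans inf_le_left) (inf_le_left.trans ((D.sys q.1).L_le q.2))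
  have hpb : ∀ q : κ, B q ≤ piece f D.P b (D.U q.1) := fun q =>
    le_inf (inf_le_right.trans inf_le_right) (inf_le_left.trans ((D.sys q.1).L_le q.2))
  have hu : ∀ q : κ, IsUnit (rX (hpb q) ((D.sys q.1).c q.2 b)) := fun q =>
    isUnit_rX _ ((inf_le_inf_left _ inf_le_right).trans ((D.sys q.1).L_inf q.2 b).le)
  let r : ∀ q : κ, Γ(X, B q) := fun q => rX (hpa q) ((D.sys q.1).c q.2 a) * ↑(hu q).unit⁻¹
  have hr : ∀ q : κ, rX (hpa q) ((D.sys q.1).c q.2 a) = r q * rX (hpb q) ((D.sys q.1).c q.2 b) := fun q => by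
    rw [mul_assoc, IsUnit.val_inv_mul, mul_one]
  obtain ⟨R, hR, -⟩ := X.sheaf.existsUnique_gluing' B (D.P a ⊓ D.P b) (fun q => homOfLE (hBle q)) hcov r
    fun q q' => by
      show rX inf_le_left (r q) = rX inf_le_right (r q')
      have hu1 := (hu q).map (rX (inf_le_left : B q ⊓ B q' ≤ B q))
      have hu2 := (hu q').map (rX (inf_le_right : B q ⊓ B q' ≤ B q'))
      refine (hu1.mul hu2).mul_right_cancel ?_
      have h1 := congrArg (rX (inf_le_left : B q ⊓ B q' ≤ B q)) (hr q)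
      have h2 := congrArg (rX (inf_le_right : B q ⊓ B q' ≤ B q')) (hr q')
      simp only [map_mul, rX_rX] at h1 h2 ⊢
      have h3 := D.cross q.1 q'.1 q.2 q'.2 a b (inf_le_left.trans (hpa q)) (inf_le_left.trans (hpb q))
        (inf_le_right.trans (hpa q')) (inf_le_right.trans (hpb q'))
      rw [h1, h2] at h3
      linear_combination h3
  have hR' : ∀ q, rX (hBle q) R = r q := hR
  refine ⟨R, fun β j W hW ha hb => ?_⟩
  refine eq_of_cover (B := fun q : κ => W ⊓ B q) (fun q => inf_le_left) (fun x hx => ?_) fun q => ?_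
  · obtain ⟨q, hq⟩ := Opens.mem_iSup.1 (hcov (hW hx))
    exact Opens.mem_iSup.2 ⟨q, hx, hq⟩
  · have h3 := D.cross β q.1 j q.2 a b (W := W ⊓ B q) (inf_le_left.trans ha) (inf_le_left.trans hb)
      (inf_le_right.trans (hpa q)) (inf_le_right.trans (hpb q))
    have h1 := congrArg (rX (inf_le_right : W ⊓ B q ≤ B q)) (hr q)
    rw [← hR' q] at h1
    simp only [map_mul, rX_rX] at h1 ⊢
    rw [h1] at h3
    have hu1 := (hu q).map (rX (inf_le_right : W ⊓ B q ≤ B q))
    rw [rX_rX] at hu1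
    refine hu1.mul_right_cancel (h3.trans ?_)
    ring

theorem exists_cocycle : ∃ c : Cocycle D.P, ∀ (a b : D.I) (β : D.J) (j : Fin (D.sys β).n) (W : X.Opens)
    (ha : W ≤ piece f D.P a (D.U β)) (hb : W ≤ piece f D.P b (D.U β)),
    rX ha ((D.sys β).c j a) = c.tr a b (ha.trans inf_le_left) (hb.trans inf_le_left) *
      rX hb ((D.sys β).c j b) := by
  choose r hr using D.exists_ratio
  have huniq : ∀ (b : D.I) (W : X.Opens) (_ : W ≤ D.P b) (s t : Γ(X, W)),
      (∀ (β : D.J) (j : Fin (D.sys β).n) (B : X.Opens) (hB : B ≤ W) (hb : B ≤ piece f D.P b (D.U β)),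
        rX hB s * rX hb ((D.sys β).c j b) = rX hB t * rX hb ((D.sys β).c j b)) → s = t := by
    intro b W hWb s t h
    refine eq_of_cover (B := fun q : (Σ β : D.J, Fin (D.sys β).n) => (D.sys q.1).L q.2 ⊓ W) (fun q => inf_le_right)
      (fun x hx => ?_) fun q => ?_
    · obtain ⟨β, hβ⟩ := D.cover (f x)
      obtain ⟨j, hj⟩ := Opens.mem_iSup.1 ((D.sys β).cover (show x ∈ f ⁻¹ᵁ D.U β from hβ))
      exact Opens.mem_iSup.2 ⟨⟨β, j⟩, hj, hx⟩
    · have hb : (D.sys q.1).L q.2 ⊓ W ≤ piece f D.P b (D.U q.1) :=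
        le_inf (inf_le_right.trans hWb) (inf_le_left.trans ((D.sys q.1).L_le q.2))
      have hu : IsUnit (rX hb ((D.sys q.1).c q.2 b)) :=
        isUnit_rX _ ((inf_le_inf_left _ hWb).trans ((D.sys q.1).L_inf q.2 b).le)
      exact hu.mul_right_cancel (h q.1 q.2 _ inf_le_right hb)
  have hself : ∀ (i : D.I) (W : X.Opens) (h : W ≤ D.P i ⊓ D.P i), rX h (r i i) = 1 := fun i W h => by
    refine huniq i W (h.trans inf_le_left) _ _ fun β j B hB hb => ?_
    rw [map_one, one_mul, rX_rX]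
    exact (hr i i β j B (hB.trans h) hb hb).symm
  refine ⟨⟨r, hself, fun i j k W hi hj hk => ?_⟩, fun a b β j W ha hb => hr a b β j W _ ha hb⟩
  refine huniq k W hk _ _ fun β m B hB hb => ?_
  show rX hB (rX (le_inf hi hj) (r i j) * rX (le_inf hj hk) (r j k)) * _ = rX hB (rX (le_inf hi hk) (r i k)) * _
  have hpi : B ≤ piece f D.P i (D.U β) := le_inf (hB.trans hi) (hb.trans inf_le_right)
  have hpj : B ≤ piece f D.P j (D.U β) := le_inf (hB.trans hj) (hb.trans inf_le_right)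
  simp only [map_mul, rX_rX]
  rw [mul_assoc, ← hr j k β m B _ hpj hb, ← hr i j β m B _ hpi hpj, ← hr i k β m B _ hpi hb]

theorem isRelAmple_glue (c : Cocycle D.P) (hc : ∀ (a b : D.I) (β : D.J) (j : Fin (D.sys β).n) (W : X.Opens)
    (ha : W ≤ piece f D.P a (D.U β)) (hb : W ≤ piece f D.P b (D.U β)),
    rX ha ((D.sys β).c j a) = c.tr a b (ha.trans inf_le_left) (hb.trans inf_le_left) *
      rX hb ((D.sys β).c j b)) [QuasiCompact f] : _root_.RelAmple.IsRelAmple f (glue c) := by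
  have hU : iSup D.P = ⊤ := top_le_iff.1 fun x _ => Opens.mem_iSup.2 (D.P_cover x)
  refine Ample.RelAmple.isRelAmple_of_local f fun y => ?_
  obtain ⟨β, hβ⟩ := D.cover y
  refine ⟨D.U β, hβ, fun V hV hle => Ample.Pow.isAmple_iff.2
    ⟨PicLoc.isInvertible_pullback _ (isInvertible_glue c hU), ?_, fun x => ?_⟩⟩
  · haveI : IsAffine (V : Scheme.{u}) := hV
    exact QuasiCompact.compactSpace_of_compactSpace (f ∣_ V)
  obtain ⟨j, hj⟩ := Opens.mem_iSup.1 ((D.sys β).cover (f.preimage_mono hle x.2))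
  let O : X.Opens := f ⁻¹ᵁ V
  have hp : ∀ a, O ⊓ D.P a ≤ piece f D.P a (D.U β) := fun a =>
    le_inf inf_le_right (inf_le_left.trans (f.preimage_mono hle))
  let m : sec c O := ⟨fun a => rX (hp a) ((D.sys β).c j a), fun a b W hW ha hb => by
    show rX (le_inf hW ha) (rX (hp a) _) = _ * rX (le_inf hW hb) (rX (hp b) _)
    rw [rX_rX, rX_rX]
    exact hc a b β j W _ _⟩
  have hm : ∀ a, rs (glue c) (inf_le_left : O ⊓ D.P a ≤ O) (show Γ(glue c, O) from m) =
      rX (hp a) ((D.sys β).c j a) • rs (glue c) inf_le_right (gen c a) := fun a => by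
    show (show sec c (O ⊓ D.P a) from rs (glue c) inf_le_left (show Γ(glue c, O) from m)) =
      rX (hp a) ((D.sys β).c j a) • (show sec c (O ⊓ D.P a) from rs (glue c) inf_le_right (gen c a))
    refine Subtype.ext (funext fun b => ?_)
    rw [Submodule.coe_smul, H97.GlueLine.smul_apply, rs_gen_apply]
    show rX (inf_le_inf_right (D.P b) inf_le_left) (rX (hp b) _) = rX inf_le_left (rX (hp a) _) * _
    rw [rX_rX, rX_rX, mul_comm]
    exact hc b a β j _ _ _
  let L' := (pb O.ι).obj (glue c)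
  have htop : (⊤ : (O : Scheme.{u}).Opens) ≤ O.ι ⁻¹ᵁ O := fun z _ => z.2
  let M : Γ(L', ⊤) := rs L' htop (unitSec O.ι (glue c) (show Γ(glue c, O) from m))
  have hlocus : ProjMor.Sec.locus M = O.ι ⁻¹ᵁ (D.sys β).L j := by
    have key : ∀ a, ProjMor.Sec.locus M ⊓ O.ι ⁻¹ᵁ (O ⊓ D.P a) = O.ι ⁻¹ᵁ ((D.sys β).L j ⊓ (O ⊓ D.P a)) := by
      intro a
      have he : IsGen L' (O.ι ⁻¹ᵁ (O ⊓ D.P a)) (unitSec O.ι (glue c) (rs (glue c) inf_le_right (gen c a))) :=
        Ample.GenLocus.isGen_unitSec O.ι (fun W hW => by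
          simpa [rs_rs] using isGen_gen c a W (hW.trans inf_le_right))
      rw [ProjMor.Sec.locus_inf_eq he (a := O.ι.app (O ⊓ D.P a) (rX (hp a) ((D.sys β).c j a)))]
      · rw [← Scheme.preimage_basicOpen, basicOpen_rX, ← (D.sys β).L_inf]
        ext z
        change (_ ∧ _) ↔ (_ ∧ _)
        constructor
        · rintro ⟨⟨hz, hzP⟩, hzL, -⟩; exact ⟨hzL, hz, hzP⟩
        · rintro ⟨hzL, hz, hzP⟩; exact ⟨⟨hz, hzP⟩, hzL, hzP⟩
      · rw [← Ample.GenLocus.unitSec_smul, ← hm a, ← Ample.GenLocus.unitSec_rs O.ι inf_le_left]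
        exact rs_rs L' _ _ _
    apply Opens.ext
    apply Set.ext
    intro z
    obtain ⟨a, ha⟩ := D.P_cover (O.ι z)
    have h1 := SetLike.ext_iff.1 (key a) z
    exact ⟨fun h => (h1.1 ⟨h, z.2, ha⟩).1, fun h => (h1.2 ⟨h, z.2, ha⟩).1⟩
  refine Ample.Pow.AffineAt.mk one_pos (Ample.Pow.powOne L').symm (Modules.Free.unitHom L' M) ?_ ?_
  · change x ∈ ProjMor.Sec.locus M
    rw [hlocus]
    exact hj
  · change IsAffineOpen (ProjMor.Sec.locus M)
    rw [hlocus]
    refine (O.ι.isAffineOpen_iff_of_isOpenImmersion).1 ?_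
    rw [Scheme.Hom.image_preimage_eq_opensRange_inf, Scheme.Opens.opensRange_ι]
    have hT := ((D.sys β).pull f (𝟙 X) (𝟙 S) (by simp) (D.affine β) (isClosedImmersion_lift_id f) hV hle).affine j
    rw [inf_comm]
    exact hT

end PData

theorem isQuasiProjective_of_isProjective (hf : RelProj.IsProjective f) : RelProj.IsQuasiProjective f := by
  haveI := HProj.Proper.isProper_of_isProjective hf
  obtain ⟨D⟩ := Main.nonempty_pdata hf
  obtain ⟨c, hc⟩ := D.exists_cocycle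
  exact ⟨inferInstance, inferInstance, _, D.isRelAmple_glue c hc⟩

end Groth.Agent.Lib.PProj
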