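import Groth.Agent.Lib.PProj.OfProper
import Groth.Agent.Lib.PProj.OOne
import Groth.Agent.Lib.PProj.Finite
import Groth.Agent.Lib.ProjMor.QP

/-!
# Composition of projective morphisms over quasi-compact quasi-separated bases
-/

noncomputable section

universe u

open CategoryTheory CategoryTheory.Limits AlgebraicGeometry TopologicalSpace Opposite

namespace Groth.Agent.Lib.PProj

variable {X Y S : Scheme.{u}}

theorem isProjective_comp [CompactSpace S] [QuasiSeparatedSpace S] {f : X ⟶ Y} {g : Y ⟶ S}
    (hf : RelProj.IsProjective f) (hg : RelProj.IsProjective g) : RelProj.IsProjective (f ≫ g) := by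
  haveI := HProj.Proper.isProper_of_isProjective hf
  haveI := HProj.Proper.isProper_of_isProjective hg
  obtain ⟨-, -, L, hL⟩ := isQuasiProjective_of_isProjective hf
  obtain ⟨-, -, K, hK⟩ := isQuasiProjective_of_isProjective hg
  obtain ⟨n₀, -, h⟩ := ProjMor.QP.eventually_isRelAmple_comp f g hL hK
  exact isProjective_of_isProper (f ≫ g) ⟨inferInstance, inferInstance, _, h n₀ le_rfl⟩

theorem isProjective_of_isFinite (f : X ⟶ Y) [IsFinite f] : RelProj.IsProjective f :=
  (nonempty_pdata_of_isFinite f).some.isProjective

end Groth.Agent.Lib.PProj
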