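import Groth.Agent.Lib.PProj.ExtSys
import Groth.Agent.Lib.Ample.Restrict

/-!
# Coordinates of sections of an invertible module
-/

noncomputable section

universe u

open CategoryTheory AlgebraicGeometry TopologicalSpace Opposite

namespace Groth.Agent.Lib.PProj

open TensorMod.Dual TensorMod.Gen

variable {X S : Scheme.{u}} (f : X ⟶ S) (M : X.Modules) {I : Type u} {P : I → X.Opens} {e : ∀ a, Γ(M, P a)}
  (he : ∀ a, IsGen M (P a) (e a))

/-- The coordinates of a section. -/
def cv {U : S.Opens} (m : Γ(M, f ⁻¹ᵁ U)) : Vec f P U := fun a =>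
  (Ample.GenLocus.exists_coord ((he a).res (inf_le_left : piece f P a U ≤ P a))
    (rs M (inf_le_right : piece f P a U ≤ f ⁻¹ᵁ U) m)).choose

theorem cv_spec {U : S.Opens} (m : Γ(M, f ⁻¹ᵁ U)) (a : I) :
    rs M (inf_le_right : piece f P a U ≤ f ⁻¹ᵁ U) m =
      cv f M he m a • rs M (inf_le_left : piece f P a U ≤ P a) (e a) :=
  (Ample.GenLocus.exists_coord ((he a).res (inf_le_left : piece f P a U ≤ P a))
    (rs M (inf_le_right : piece f P a U ≤ f ⁻¹ᵁ U) m)).choose_spec

theorem cv_rs {U : S.Opens} (m : Γ(M, f ⁻¹ᵁ U)) (a : I) (W : X.Opens) (hW : W ≤ piece f P a U) :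
    rs M (hW.trans inf_le_right) m = rX hW (cv f M he m a) • rs M (hW.trans inf_le_left) (e a) := by
  have h := congrArg (rs M hW) (cv_spec f M he m a)
  rw [rs_smul, rs_rs, rs_rs] at h
  exact h

theorem prop2_cv {U : S.Opens} (m m' : Γ(M, f ⁻¹ᵁ U)) : Prop2 (cv f M he m) (cv f M he m') := by
  intro a b W ha hb
  obtain ⟨τ, hτ⟩ := Ample.GenLocus.exists_coord ((he b).res (hb.trans inf_le_left))
    (rs M (ha.trans inf_le_left) (e a))
  have key : ∀ n : Γ(M, f ⁻¹ᵁ U), rX hb (cv f M he n b) = rX ha (cv f M he n a) * τ := fun n => by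
    have h1 := cv_rs f M he n a W ha
    rw [hτ, smul_smul, cv_rs f M he n b W hb] at h1
    refine ((he b).res (hb.trans inf_le_left) W le_rfl).1 ?_
    simp only [rs_self]
    exact h1
  rw [key m, key m']
  ring

theorem vres_cv {U V : S.Opens} (h : V ≤ U) (m : Γ(M, f ⁻¹ᵁ U)) :
    cv f M he (rs M (f.preimage_mono h) m) = vres h (cv f M he m) := funext fun a => by
  refine ((he a).res (inf_le_left : piece f P a V ≤ P a) _ le_rfl).1 ?_
  simp only [rs_self]
  rw [← cv_spec, rs_rs, vres_apply]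
  exact cv_rs f M he m a (piece f P a V) (piece_mono a h)

theorem cv_sum {V : S.Opens} {n : ℕ} (l : Fin n → Γ(S, V)) (G : Fin n → Γ(M, f ⁻¹ᵁ V)) :
    cv f M he (∑ k, f.app V (l k) • G k) = lin l fun k => cv f M he (G k) := funext fun a => by
  refine ((he a).res (inf_le_left : piece f P a V ≤ P a) _ le_rfl).1 ?_
  simp only [rs_self]
  rw [← cv_spec]
  simp only [lin, Finset.sum_smul, map_sum, rs]
  refine Finset.sum_congr rfl fun k _ => ?_
  change rs M _ (_ • G k) = _
  rw [rs_smul, cv_spec f M he (G k) a, smul_smul]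
  refine congrArg (fun r => r • _) (congrArg (· * _) ?_)
  simp only [base, rf]
  rw [← CommRingCat.comp_apply, Scheme.Hom.app_eq_appLE, Scheme.Hom.appLE_map]

theorem le_basicOpen_cv {U : S.Opens} (m : Γ(M, f ⁻¹ᵁ U)) (a : I) {W : X.Opens} (hW : W ≤ f ⁻¹ᵁ U)
    (hg : IsGen M W (rs M hW m)) : W ⊓ P a ≤ X.basicOpen (cv f M he m a) := by
  have hp : W ⊓ P a ≤ piece f P a U := le_inf inf_le_right (inf_le_left.trans hW)
  have h := cv_rs f M he m a (W ⊓ P a) hp
  have hu : IsUnit (rX hp (cv f M he m a)) := by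
    refine Ample.GenLocus.isUnit_of_isGen_smul ((he a).res (inf_le_right : W ⊓ P a ≤ P a)) ?_
    rw [← h]
    have h2 := hg.res (inf_le_left : W ⊓ P a ≤ W)
    rwa [rs_rs] at h2
  have := Scheme.basicOpen_of_isUnit _ hu
  rw [basicOpen_rX] at this
  exact this.ge.trans inf_le_right

theorem isGen_basicOpen_cv {U : S.Opens} (m : Γ(M, f ⁻¹ᵁ U)) (a : I) :
    IsGen M (X.basicOpen (cv f M he m a)) (rs M ((X.basicOpen_le _).trans inf_le_right) m) := by
  rw [cv_rs f M he m a _ (X.basicOpen_le _)]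
  exact Ample.GenLocus.IsGen_smul_isUnit ((he a).res ((X.basicOpen_le _).trans inf_le_left))
    (isUnit_rX _ le_rfl)

end Groth.Agent.Lib.PProj
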