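import Groth.Agent.Lib.PProj.Sys
import Groth.Agent.Lib.PProj.AffineGen

/-!
# Pulling back coordinate data

Coordinate data for `f : X ⟶ S` give coordinate data for `f' : Z ⟶ S'` when `Z ⟶ X ×_S S'` is a closed immersion.
-/

noncomputable section

universe u

open CategoryTheory CategoryTheory.Limits AlgebraicGeometry TopologicalSpace Opposite

namespace Groth.Agent.Lib.PProj

theorem appLE_comp_apply {A B C : Scheme.{u}} (g : A ⟶ B) (h : B ⟶ C) (U : C.Opens) (V : B.Opens) (W : A.Opens)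
    (e₁ : V ≤ h ⁻¹ᵁ U) (e₂ : W ≤ g ⁻¹ᵁ V) (r : Γ(C, U)) :
    g.appLE V W e₂ (h.appLE U V e₁ r) =
      (g ≫ h).appLE U W (e₂.trans (g.preimage_mono e₁)) r := by
  rw [← CommRingCat.comp_apply, Scheme.Hom.appLE_comp_appLE]

theorem appLE_hom_congr {A C : Scheme.{u}} {g g' : A ⟶ C} (hgg : g = g') (U : C.Opens) (W : A.Opens)
    (e : W ≤ g ⁻¹ᵁ U) (e' : W ≤ g' ⁻¹ᵁ U) (r : Γ(C, U)) : g.appLE U W e r = g'.appLE U W e' r := by
  subst hgg; rfl

theorem rX_appLE {A B : Scheme.{u}} (g : A ⟶ B) {U : B.Opens} {W W' : A.Opens} (e : W ≤ g ⁻¹ᵁ U) (h : W' ≤ W)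
    (r : Γ(B, U)) : rX h (g.appLE U W e r) = g.appLE U W' (h.trans e) r := by
  simp only [rX]
  rw [← CommRingCat.comp_apply, Scheme.Hom.appLE_map]

theorem appLE_rX {A B : Scheme.{u}} (g : A ⟶ B) {U U' : B.Opens} {W : A.Opens} (h : U' ≤ U) (e : W ≤ g ⁻¹ᵁ U')
    (r : Γ(B, U)) : g.appLE U' W e (rX h r) = g.appLE U W (e.trans (g.preimage_mono h)) r := by
  simp only [rX]
  rw [← CommRingCat.comp_apply, Scheme.Hom.map_appLE]

variable {X S Z S' : Scheme.{u}} {f : X ⟶ S} (f' : Z ⟶ S') (p : Z ⟶ X) (h : S' ⟶ S)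
  (hcomm : p ≫ f = f' ≫ h)

include hcomm in
theorem preimage_base_eq (U : S.Opens) : p ⁻¹ᵁ (f ⁻¹ᵁ U) = f' ⁻¹ᵁ (h ⁻¹ᵁ U) := by
  rw [← Scheme.Hom.comp_preimage, hcomm, Scheme.Hom.comp_preimage]

include hcomm in
theorem piece_pull_le {I : Type u} (P : I → X.Opens) {U : S.Opens} {V : S'.Opens} (hV : V ≤ h ⁻¹ᵁ U) (a : I) :
    piece f' (fun a => p ⁻¹ᵁ P a) a V ≤ p ⁻¹ᵁ piece f P a U := fun x hx => by
  refine ⟨hx.1, ?_⟩
  have := (preimage_base_eq f' p h hcomm U).ge (hV hx.2)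
  exact this

/-- The pulled back vector. -/
def pullVec {I : Type u} {P : I → X.Opens} {U : S.Opens} {V : S'.Opens} (hV : V ≤ h ⁻¹ᵁ U) (v : Vec f P U) :
    Vec f' (fun a => p ⁻¹ᵁ P a) V :=
  fun a => p.appLE (piece f P a U) _ (piece_pull_le f' p h hcomm P hV a) (v a)

theorem pullVec_vres {I : Type u} {P : I → X.Opens} {U U' : S.Opens} {V V' : S'.Opens} (hV : V ≤ h ⁻¹ᵁ U)
    (hV' : V' ≤ h ⁻¹ᵁ U') (hU : U' ≤ U) (hVV : V' ≤ V) (v : Vec f P U) :
    vres hVV (pullVec f' p h hcomm hV v) = pullVec f' p h hcomm hV' (vres hU v) := funext fun a => by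
  simp only [pullVec, vres_apply, rX_appLE, appLE_rX]

theorem pullVec_lin {I : Type u} {P : I → X.Opens} {U : S.Opens} {V : S'.Opens} (hV : V ≤ h ⁻¹ᵁ U) {n : ℕ}
    (l : Fin n → Γ(S, U)) (v : Fin n → Vec f P U) :
    pullVec f' p h hcomm hV (lin l v) = lin (fun k => h.appLE U V hV (l k)) fun k => pullVec f' p h hcomm hV (v k) :=
  funext fun a => by
    simp only [pullVec, lin, map_sum, map_mul]
    refine Finset.sum_congr rfl fun k _ => congrArg (· * _) ?_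
    simp only [base]
    rw [appLE_comp_apply, appLE_comp_apply, appLE_hom_congr hcomm]

/-- The pulled back system. -/
def Sys.pull {I : Type u} {P : I → X.Opens} {U : S.Opens} (T : Sys f P U) (hU : IsAffineOpen U)
    (hk : IsClosedImmersion (pullback.lift p f' hcomm)) {V : S'.Opens} (hV : IsAffineOpen V) (hle : V ≤ h ⁻¹ᵁ U) :
    Sys f' (fun a => p ⁻¹ᵁ P a) V where
  n := T.n
  c j := pullVec f' p h hcomm hle (T.c j)
  L j := p ⁻¹ᵁ T.L j ⊓ f' ⁻¹ᵁ V
  L_le _ := inf_le_right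
  affine j := (affine_and_gen p f' f h hcomm hk (T.affine j) hV hU (T.L_le j) hle).1
  cover x hx := by
    obtain ⟨j, hj⟩ := Opens.mem_iSup.1 (T.cover (x := p x)
      (show x ∈ p ⁻¹ᵁ (f ⁻¹ᵁ U) from (preimage_base_eq f' p h hcomm U).ge (hle hx)))
    exact Opens.mem_iSup.2 ⟨j, hj, hx⟩
  L_inf j a := by
    rw [pullVec, Scheme.basicOpen_appLE, ← T.L_inf]
    ext x
    simp only [piece, Opens.coe_inf, Set.mem_inter_iff, SetLike.mem_coe, Scheme.Hom.preimage_inf]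
    tauto
  u j k := p.appLE (T.L j) _ inf_le_left (T.u j k)
  rel j k a := by
    have hle2 : p ⁻¹ᵁ T.L j ⊓ f' ⁻¹ᵁ V ⊓ p ⁻¹ᵁ P a ≤ p ⁻¹ᵁ (T.L j ⊓ P a) := fun x hx => ⟨hx.1.1, hx.2⟩
    have e := congrArg (p.appLE (T.L j ⊓ P a) _ hle2) (T.rel' j k a)
    simp only [map_mul, appLE_rX] at e
    simp only [pullVec, rX_appLE]
    exact e
  gen j := by
    let W := p ⁻¹ᵁ T.L j ⊓ f' ⁻¹ᵁ V
    let R0 := Subring.closure (Set.range (f'.appLE V W inf_le_right) ∪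
      Set.range fun k => p.appLE (T.L j) W inf_le_left (T.u j k))
    show R0 = ⊤
    refine eq_top_iff.2 ((affine_and_gen p f' f h hcomm hk (T.affine j) hV hU (T.L_le j) hle).2.ge.trans
      (Subring.closure_le.2 ?_))
    rintro _ (⟨w, rfl⟩ | ⟨r, rfl⟩)
    · have hw : w ∈ Subring.closure (Set.range (f.appLE U (T.L j) (T.L_le j)) ∪ Set.range (T.u j)) :=
        (T.gen j).ge (Subring.mem_top w)
      refine (Subring.closure_le (t := R0.comap (p.appLE (T.L j) W inf_le_left).hom)).2 ?_ hw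
      rintro _ (⟨r, rfl⟩ | ⟨k, rfl⟩)
      · refine Subring.subset_closure (Or.inl ⟨h.appLE U V hle r, ?_⟩)
        change f'.appLE V W inf_le_right (h.appLE U V hle r) = p.appLE (T.L j) W inf_le_left (f.appLE U _ _ r)
        rw [appLE_comp_apply, appLE_comp_apply, appLE_hom_congr hcomm.symm]
      · exact Subring.subset_closure (Or.inr ⟨k, rfl⟩)
    · exact Subring.subset_closure (Or.inl ⟨r, rfl⟩)

include hcomm in
/-- The pulled back coordinate data. -/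
theorem PData.pull (D : PData f) (hk : IsClosedImmersion (pullback.lift p f' hcomm)) : Nonempty (PData f') := by
  refine ⟨{
    I := D.I
    P := fun a => p ⁻¹ᵁ D.P a
    P_cover := fun x => D.P_cover (p x)
    J := {q : D.J × S'.Opens // IsAffineOpen q.2 ∧ q.2 ≤ h ⁻¹ᵁ D.U q.1}
    U := fun q => q.1.2
    affine := fun q => q.2.1
    cover := fun y => ?_
    sys := fun q => (D.sys q.1.1).pull f' p h hcomm (D.affine q.1.1) hk q.2.1 q.2.2
    compat := fun q q' j y hy hy' => ?_ }⟩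
  · obtain ⟨β, hβ⟩ := D.cover (h y)
    obtain ⟨V, hV, hyV, hle⟩ :=
      exists_isAffineOpen_mem_and_subset (X := S') (x := y) (U := h ⁻¹ᵁ D.U β) hβ
    exact ⟨⟨(β, V), hV, hle⟩, hyV⟩
  · obtain ⟨Vc, hc1, hc2, hyc, l, hl⟩ := D.compat q.1.1 q'.1.1 j (h y) (q.2.2 hy) (q'.2.2 hy')
    let W : S'.Opens := (q.1.2 ⊓ q'.1.2) ⊓ h ⁻¹ᵁ Vc
    refine ⟨W, inf_le_left.trans inf_le_left, inf_le_left.trans inf_le_right, ⟨⟨hy, hy'⟩, hyc⟩,
      fun k => h.appLE Vc W inf_le_right (l k), ?_⟩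
    show vres _ (pullVec f' p h hcomm q'.2.2 ((D.sys q'.1.1).c j)) =
      lin _ fun k => vres _ (pullVec f' p h hcomm q.2.2 ((D.sys q.1.1).c k))
    rw [pullVec_vres f' p h hcomm _ inf_le_right hc2 (inf_le_left.trans inf_le_right) ((D.sys q'.1.1).c j), hl,
      pullVec_lin]
    refine congrArg (lin _) (funext fun k => ?_)
    rw [pullVec_vres f' p h hcomm _ inf_le_right hc1]

end Groth.Agent.Lib.PProj
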