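import Groth.Agent.Lib.PProj.Coord
import Groth.Agent.Lib.PProj.AffineGen
import Groth.Agent.Lib.PProj.Pull
import Groth.Agent.Lib.ProjMor.Embed
import Groth.Agent.Lib.ProjSpace.Basic

/-!
# The coordinate system of a very ample module that is proper over an affine open
-/

noncomputable section

universe u

open CategoryTheory CategoryTheory.Limits AlgebraicGeometry TopologicalSpace Opposite

namespace Groth.Agent.Lib.PProj

open TensorMod TensorMod.Basic TensorMod.Free TensorMod.Dual TensorMod.Gen TensorMod.HomGlue TensorMod.Pullback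
  Ample.GenLocus ProjMor ProjMor.Sec ProjMor.Frame

theorem isGen_image {X : Scheme.{u}} {M : X.Modules} (O : X.Opens) {W : (O : Scheme.{u}).Opens}
    {e : Γ(M.restrict O.ι, W)} (h : IsGen (M.restrict O.ι) W e) :
    IsGen M (O.ι ''ᵁ W) ((M.restrictAppIso O.ι W).hom e) := by
  intro V hV
  obtain ⟨V', rfl⟩ : ∃ V' : (O : Scheme.{u}).Opens, O.ι ''ᵁ V' = V :=
    ⟨O.ι ⁻¹ᵁ V, by
      rw [Scheme.Hom.image_preimage_eq_opensRange_inf, inf_eq_right]
      exact hV.trans (O.ι.image_le_opensRange W)⟩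
  have hle : V' ≤ W := fun z hz => by
    obtain ⟨z', hz', hzz⟩ := hV ⟨z, hz, rfl⟩
    exact O.ι.injective hzz ▸ hz'
  have key : (fun a : Γ(X, O.ι ''ᵁ V') => a • rs M hV ((M.restrictAppIso O.ι W).hom e)) ∘ (O.ι.appIso V').inv =
      ((M.restrictAppIso O.ι V').hom ∘ fun a : Γ((O : Scheme.{u}), V') => a • rs (M.restrict O.ι) hle e :) := funext fun a => by
    rw [Function.comp_apply, Function.comp_apply, restrict_smul]
    rfl
  have hb : Function.Bijective ((fun a : Γ(X, O.ι ''ᵁ V') => a • rs M hV ((M.restrictAppIso O.ι W).hom e)) ∘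
      (O.ι.appIso V').inv) := by
    rw [key]
    exact (ConcreteCategory.bijective_of_isIso (M.restrictAppIso O.ι V').hom).comp (h V' hle)
  exact (Function.Bijective.of_comp_iff _ (ConcreteCategory.bijective_of_isIso (O.ι.appIso V').inv)).1 hb

abbrev ZU : Type u := ULift.{u} ℤ

theorem closure_dplus {N : ℕ} (k : Fin (N + 1)) :
    Subring.closure (Set.range fun l : Fin (N + 1) => fr (𝒜 := CohB1.polyGrading N ZU.{u})
      ⟨MvPolynomial.X k, MvPolynomial.isHomogeneous_X _ k⟩ ⟨MvPolynomial.X l, MvPolynomial.isHomogeneous_X _ l⟩) = ⊤ := by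
  refine eq_top_iff.2 fun w hw => ?_
  clear hw
  set C0 := Subring.closure (Set.range fun l : Fin (N + 1) => fr (𝒜 := CohB1.polyGrading N ZU.{u})
      ⟨MvPolynomial.X k, MvPolynomial.isHomogeneous_X _ k⟩ ⟨MvPolynomial.X l, MvPolynomial.isHomogeneous_X _ l⟩)
  let A := Proj.basicOpenIsoAway (CohB1.polyGrading N ZU.{u}) (MvPolynomial.X k)
    (MvPolynomial.isHomogeneous_X _ k) one_pos
  obtain ⟨y, rfl⟩ := (ConcreteCategory.bijective_of_isIso A.hom).2 w
  obtain ⟨p, rfl⟩ := ProjSpace.Charts.fromPoly_surjective k y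
  let φ : MvPolynomial {j : Fin (N + 1) // j ≠ k} ZU.{u} →+* Γ(Proj (CohB1.polyGrading N ZU.{u}),
      Proj.basicOpen (CohB1.polyGrading N ZU.{u}) (MvPolynomial.X k)) :=
    A.hom.hom.comp (ProjSpace.Charts.fromPoly ZU.{u} k)
  show φ p ∈ C0
  induction p using MvPolynomial.induction_on with
  | C c =>
    have hc : (MvPolynomial.C c : MvPolynomial {j : Fin (N + 1) // j ≠ k} ZU.{u}) =
        ((c.down : ℤ) : MvPolynomial {j : Fin (N + 1) // j ≠ k} ZU.{u}) := by
      rw [← map_intCast (MvPolynomial.C : ZU.{u} →+* MvPolynomial {j : Fin (N + 1) // j ≠ k} ZU.{u})]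
      exact congrArg _ (ULift.ext _ _ (by simp))
    rw [hc, map_intCast]
    exact intCast_mem C0 _
  | add p q hp hq => rw [map_add]; exact add_mem hp hq
  | mul_X p l hp =>
    rw [map_mul]
    refine mul_mem hp (Subring.subset_closure ⟨l.1, ?_⟩)
    simp only [φ, RingHom.comp_apply, ProjSpace.Charts.fromPoly_X]
    refine congrArg A.hom.hom (HomogeneousLocalization.val_injective _ ?_)
    rw [ProjSpace.Charts.val_coord]
    erw [HomogeneousLocalization.Away.val_mk]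
    simp only [pow_one]

variable {X S : Scheme.{u}} (f : X ⟶ S) [IsProper f] (M : X.Modules) {I : Type u} {P : I → X.Opens}
  {e : ∀ a, Γ(M, P a)} (he : ∀ a, IsGen M (P a) (e a))

theorem exists_sys_of_veryAmple (hPc : ∀ x, ∃ a, x ∈ P a) {U : S.Opens} (hU : IsAffineOpen U)
    (h : _root_.RelAmple.IsRelVeryAmplePn (f ∣_ U) (M.restrict (f ⁻¹ᵁ U).ι)) :
    ∃ (T : Sys f P U) (m : Fin T.n → Γ(M, f ⁻¹ᵁ U)), ∀ j, T.c j = cv f M he (m j) := by
  haveI : IsAffine (U : Scheme.{u}) := hU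
  obtain ⟨N, j, hi, hjq, ⟨φ⟩⟩ := h
  let O := f ⁻¹ᵁ U
  let q : (O : Scheme.{u}) ⟶ U := f ∣_ U
  let p : CohB1.ProjSpaceOver N (U : Scheme.{u}) ⟶ CohB1.ProjSpace N ZU.{u} := pullback.fst _ _
  let π : CohB1.ProjSpaceOver N (U : Scheme.{u}) ⟶ U := pullback.snd _ _
  let r : (O : Scheme.{u}) ⟶ CohB1.ProjSpace N ZU.{u} := j ≫ p
  have hjπ : j ≫ π = q := hjq
  haveI := hi
  haveI : IsProper q := MorphismProperty.of_isPullback (P := @IsProper) (isPullback_morphismRestrict f U).flip ‹_›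
  haveI : IsSeparated π := inferInstanceAs (IsSeparated (pullback.snd _ _))
  haveI : IsProper (j ≫ π) := hjπ.symm ▸ ‹_›
  haveI : IsProper j := IsProper.of_comp j π
  have hjc : IsClosedImmersion j := IsClosedImmersion.of_isPreimmersion j j.isClosedMap.isClosed_range
  let 𝒜 := CohB1.polyGrading N ZU.{u}
  let el : Fin (N + 1) → 𝒜 1 := fun i => ⟨MvPolynomial.X i, MvPolynomial.isHomogeneous_X _ i⟩
  have hcv := Main.cover (Poly.lin_mem N ZU.{u}) (Poly.adjoin_lin N ZU.{u})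
  have hinv : PicF.IsInvertible (Twist.twist 𝒜 1) :=
    Groth.Agent.Lib.ProjTilde.Invertible.twist_isInvertible_of_cover (fun x => by
      obtain ⟨c, hc⟩ := hcv x
      exact ⟨c, c.2, hc⟩) 1
  let τ : (Scheme.Modules.pullback r).obj (Twist.twist 𝒜 1) ≅ M.restrict O.ι :=
    ((Scheme.Modules.pullbackComp j p).app (Twist.twist 𝒜 1)).symm ≪≫ φ.symm
  let t : Fin (N + 1) → Γ(M.restrict O.ι, ⊤) := fun k =>
    τ.hom.app ⊤ (ProjUP.pullSec r (Twist.twist 𝒜 1) (g 𝒜 (el k)))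
  have hloc : ∀ k, locus (t k) = r ⁻¹ᵁ Proj.basicOpen 𝒜 (el k : MvPolynomial (Fin (N + 1)) ZU.{u}) := fun k => by
    rw [← locus_g hcv (el k)]
    exact (locus_iso τ _).trans (locus_pullback hinv r _)
  let W : Fin (N + 1) → (O : Scheme.{u}).Opens := fun k =>
    r ⁻¹ᵁ Proj.basicOpen 𝒜 (el k : MvPolynomial (Fin (N + 1)) ZU.{u}) ⊓ q ⁻¹ᵁ ⊤
  have hW : ∀ k, W k = locus (t k) := fun k => by
    rw [hloc k]
    exact inf_eq_left.2 le_top
  have hO : O ≤ O.ι ''ᵁ ⊤ := by simp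
  let m : Fin (N + 1) → Γ(M, f ⁻¹ᵁ U) := fun k => rs M hO ((M.restrictAppIso O.ι ⊤).hom (t k))
  let L : Fin (N + 1) → X.Opens := fun k => O.ι ''ᵁ W k
  have hLO : ∀ k, L k ≤ f ⁻¹ᵁ U := fun k => (O.ι.image_le_opensRange _).trans (Scheme.Opens.opensRange_ι O).le
  have hgl : ∀ (V : (O : Scheme.{u}).Opens) (hV : O.ι ''ᵁ V ≤ f ⁻¹ᵁ U) k,
      rs M hV (m k) = (M.restrictAppIso O.ι V).hom (gl (t k) V) := fun V hV k => by
    simp only [m, rs_rs]
    rfl
  have hgen : ∀ k, IsGen M (L k) (rs M (hLO k) (m k)) := fun k => by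
    rw [hgl]
    refine isGen_image O ?_
    rw [hW]
    exact isGen_locus (t k)
  have hmax : ∀ k (B : X.Opens) (hB : B ≤ f ⁻¹ᵁ U), IsGen M B (rs M hB (m k)) → B ≤ L k := fun k B hB hg => by
    have h1 : IsGen (M.restrict O.ι) (O.ι ⁻¹ᵁ B) (gl (t k) (O.ι ⁻¹ᵁ B)) := by
      have h2 := Ample.Restrict.isGen_restrict hg O
      convert h2 using 1
      rw [rs_rs, hgl]
      exact (ConcreteCategory.congr_hom (M.restrictAppIso O.ι (O.ι ⁻¹ᵁ B)).hom_inv_id _).symm
    intro x hx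
    exact ⟨⟨x, hB hx⟩, (hW k).ge (le_locus h1 hx), rfl⟩
  have hu : ∀ k l, ∃ a : Γ(X, L k), a • rs M le_rfl (rs M (hLO k) (m k)) = rs M (hLO k) (m l) :=
    fun k l => (hgen k _ le_rfl).2 _
  choose u hu using hu
  have hga : ∀ k, IsAffineOpen (W k) ∧
      Subring.closure (Set.range (r.appLE (Proj.basicOpen 𝒜 (el k : MvPolynomial (Fin (N + 1)) ZU.{u})) (W k)
        inf_le_left) ∪ Set.range (q.appLE ⊤ (W k) inf_le_right)) = ⊤ := fun k => by
    refine affine_and_gen r q (CohB1.ProjSpace.toSpec N ZU.{u}) (specULiftZIsTerminal.from _) ?_ ?_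
      (Proj.isAffineOpen_basicOpen 𝒜 _ (el k).2 one_pos) (isAffineOpen_top _) (isAffineOpen_top _) le_top le_top
    · exact specULiftZIsTerminal.hom_ext _ _
    · have h0 : r ≫ CohB1.ProjSpace.toSpec N ZU.{u} = q ≫ specULiftZIsTerminal.from _ :=
        specULiftZIsTerminal.hom_ext _ _
      have e : j = pullback.lift (f := CohB1.ProjSpace.toSpec N ZU.{u}) (g := specULiftZIsTerminal.from _) r q h0 :=
        pullback.hom_ext (pullback.lift_fst _ _ _).symm (hjπ.trans (pullback.lift_snd _ _ _).symm)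
      exact e ▸ hjc
  refine ⟨{
    n := N + 1
    c := fun k => cv f M he (m k)
    L := L
    L_le := hLO
    affine := fun k => (hga k).1.image_of_isOpenImmersion O.ι
    cover := fun x hx => ?_
    L_inf := fun k a => ?_
    u := u
    rel := fun k l a => ?_
    gen := fun k => ?_ }, m, fun _ => rfl⟩
  · obtain ⟨c, hc⟩ := Opens.mem_iSup.1 ((ProjSpace.Basic.iSup_basicOpen_X_eq_top N ZU.{u}).ge (Opens.mem_top (r ⟨x, hx⟩)))
    exact Opens.mem_iSup.2 ⟨c, ⟨x, hx⟩, ⟨hc, trivial⟩, rfl⟩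
  · refine le_antisymm (le_basicOpen_cv f M he (m k) a (hLO k) (hgen k)) (le_inf ?_ ?_)
    · exact hmax k _ ((X.basicOpen_le _).trans inf_le_right) (isGen_basicOpen_cv f M he (m k) a)
    · exact (X.basicOpen_le _).trans inf_le_left
  · have hp : L k ⊓ P a ≤ piece f P a U := le_inf inf_le_right (inf_le_left.trans (hLO k))
    refine ((he a).res (inf_le_right : L k ⊓ P a ≤ P a) _ le_rfl).1 ?_
    simp only [rs_self]
    rw [mul_smul, ← cv_rs f M he (m l) a _ hp, ← cv_rs f M he (m k) a _ hp]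
    have h1 := congrArg (rs M (inf_le_left : L k ⊓ P a ≤ L k)) (hu k l)
    simp only [rs_smul, rs_rs] at h1
    exact h1.symm
  · refine eq_top_iff.2 fun z _ => ?_
    set R0 := Subring.closure (Set.range (f.appLE U (L k) (hLO k)) ∪ Set.range (u k)) with hR0
    let θ : Γ((O : Scheme.{u}), W k) →+* Γ(X, L k) := (O.ι.appIso (W k)).inv.hom
    obtain ⟨z', rfl⟩ := (ConcreteCategory.bijective_of_isIso (O.ι.appIso (W k)).inv).2 z
    refine (Subring.closure_le (t := R0.comap θ)).2 ?_ ((hga k).2.ge (Subring.mem_top z'))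
    rintro _ (⟨w, rfl⟩ | ⟨y, rfl⟩)
    · refine (Subring.closure_le (t := R0.comap (θ.comp (r.appLE _ (W k) inf_le_left).hom))).2 ?_
        ((closure_dplus k).ge (Subring.mem_top w))
      rintro _ ⟨l, rfl⟩
      refine Subring.subset_closure (Or.inr ⟨l, ?_⟩)
      have h1 := congrArg (M.restrictAppIso O.ι (W k)).hom
        (Embed.ratio_of_iso (a := el k) (b := el l) τ rfl rfl (U := W k) inf_le_left)
      rw [restrict_smul] at h1
      replace h1 := (hgl (W k) (hLO k) l).trans h1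
      have h2 := hgl (W k) (hLO k) k
      refine (hgen k _ le_rfl).1 ?_
      show u k l • rs M le_rfl (rs M (hLO k) (m k)) = _ • rs M le_rfl (rs M (hLO k) (m k))
      rw [hu, rs_self, h2]
      exact h1
    · obtain ⟨y0, rfl⟩ : ∃ y0 : Γ(S, U), U.ι.appLE U ⊤ (fun z _ => z.2) y0 = y := by
        refine ⟨U.topIso.hom y, ?_⟩
        have e : U.ι.appLE U ⊤ (fun z _ => z.2) = U.topIso.inv := by
          simp [Scheme.Opens.ι_appLE, Scheme.Opens.topIso]
          rfl
        rw [e, ← CommRingCat.comp_apply, Iso.hom_inv_id]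
        rfl
      refine Subring.subset_closure (Or.inl ⟨y0, ?_⟩)
      show f.appLE U (L k) (hLO k) y0 = θ (q.appLE ⊤ (W k) _ (U.ι.appLE U ⊤ _ y0))
      rw [appLE_comp_apply, appLE_hom_congr (morphismRestrict_ι f U) U (W k) _
        ((fun z hz => hLO k ⟨z, hz, rfl⟩ : W k ≤ O.ι ⁻¹ᵁ (f ⁻¹ᵁ U)))]
      simp only [θ]
      rw [← appLE_comp_apply O.ι f U (L k) (W k) (hLO k) (fun z hz => ⟨z, hz, rfl⟩)]
      have e : O.ι.appLE (L k) (W k) (fun z hz => ⟨z, hz, rfl⟩) = (O.ι.appIso (W k)).hom :=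
        (Scheme.Hom.appIso_hom' O.ι (W k)).symm
      rw [e, ← CommRingCat.comp_apply (O.ι.appIso (W k)).hom, Iso.hom_inv_id]
      rfl

end Groth.Agent.Lib.PProj
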