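import Groth.Agent.Lib.ProjSpace.Charts
import Mathlib.RingTheory.PowerSeries.Basic
import Mathlib.AlgebraicGeometry.AffineScheme
import Mathlib.AlgebraicGeometry.Restrict

/-!
# Coordinates in a cover

For opens `P a` of `X` and an open `W` of the base: the ambient ring `Amb f P W = ∏ a, Γ(P a ∩ f⁻¹W)⟦t⟧`, the
degree-one vectors `Vec f P W`, and evaluation of polynomials at `t` times a finite family of vectors.
-/

noncomputable section

universe u

open CategoryTheory AlgebraicGeometry TopologicalSpace MvPolynomial Opposite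

namespace Groth.Agent.Lib.PProj

section res

variable {X : Scheme.{u}}

/-- Restriction of functions. -/
def rX {A B : X.Opens} (h : B ≤ A) : Γ(X, A) →+* Γ(X, B) := (X.presheaf.map (homOfLE h).op).hom

theorem rX_rX {A B C : X.Opens} (h : B ≤ A) (h' : C ≤ B) (s : Γ(X, A)) : rX h' (rX h s) = rX (h'.trans h) s := by
  simp only [rX]
  rw [← CommRingCat.comp_apply, ← Functor.map_comp]
  rfl

theorem rX_self {A : X.Opens} (h : A ≤ A) (s : Γ(X, A)) : rX h s = s :=
  (congrArg (fun m : Γ(X, A) ⟶ Γ(X, A) => m s) (X.presheaf.map_id _)).trans rfl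

theorem basicOpen_rX {A B : X.Opens} (h : B ≤ A) (s : Γ(X, A)) : X.basicOpen (rX h s) = B ⊓ X.basicOpen s :=
  X.basicOpen_res s (homOfLE h).op

theorem isUnit_rX {A B : X.Opens} (h : B ≤ A) {s : Γ(X, A)} (hs : B ≤ X.basicOpen s) : IsUnit (rX h s) := by
  have h1 := (X.toRingedSpace.isUnit_res_basicOpen s).map (rX hs)
  exact (rX_rX (X.basicOpen_le s) hs s).trans (by rfl) ▸ h1

theorem eq_of_cover {ι : Type*} {A : X.Opens} {B : ι → X.Opens} (hB : ∀ i, B i ≤ A) (hc : A ≤ ⨆ i, B i)
    {s t : Γ(X, A)} (h : ∀ i, rX (hB i) s = rX (hB i) t) : s = t :=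
  X.sheaf.eq_of_locally_eq' B A (fun i => homOfLE (hB i)) hc s t h

end res

variable {X S : Scheme.{u}} (f : X ⟶ S) {I : Type u} (P : I → X.Opens)

/-- The piece `P a` over `W`. -/
abbrev piece (a : I) (W : S.Opens) : X.Opens := P a ⊓ f ⁻¹ᵁ W

/-- The ambient ring over `W`. -/
abbrev Amb (W : S.Opens) : Type u := ∀ a, PowerSeries Γ(X, piece f P a W)

/-- The coordinates of an element of degree one. -/
abbrev Vec (W : S.Opens) : Type u := ∀ a, Γ(X, piece f P a W)

variable {f P}

theorem piece_mono (a : I) {W W' : S.Opens} (h : W' ≤ W) : piece f P a W' ≤ piece f P a W :=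
  inf_le_inf_left _ (f.preimage_mono h)

/-- Restriction of the ambient rings. -/
def ares {W W' : S.Opens} (h : W' ≤ W) : Amb f P W →+* Amb f P W' :=
  Pi.ringHom fun a => (PowerSeries.map (rX (piece_mono a h))).comp (Pi.evalRingHom _ a)

theorem coeff_ares {W W' : S.Opens} (h : W' ≤ W) (s : Amb f P W) (a : I) (d : ℕ) :
    PowerSeries.coeff d (ares h s a) = rX (piece_mono a h) (PowerSeries.coeff d (s a)) :=
  PowerSeries.coeff_map _ _ _

theorem ares_apply {W W' : S.Opens} (h : W' ≤ W) (s : Amb f P W) (a : I) :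
    ares h s a = PowerSeries.map (rX (piece_mono a h)) (s a) := rfl

theorem amb_ext {W : S.Opens} {s t : Amb f P W}
    (h : ∀ a d, PowerSeries.coeff d (s a) = PowerSeries.coeff d (t a)) : s = t :=
  funext fun a => PowerSeries.ext fun d => h a d

theorem ares_self {W : S.Opens} (h : W ≤ W) (s : Amb f P W) : ares h s = s :=
  amb_ext fun a d => by rw [coeff_ares, rX_self]

theorem ares_ares {W W' W'' : S.Opens} (h : W' ≤ W) (h' : W'' ≤ W') (s : Amb f P W) :
    ares h' (ares h s) = ares (h'.trans h) s :=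
  amb_ext fun a d => by simp only [coeff_ares, rX_rX]

/-- Restriction of vectors. -/
def vres {W W' : S.Opens} (h : W' ≤ W) (v : Vec f P W) : Vec f P W' := fun a => rX (piece_mono a h) (v a)

theorem vres_apply {W W' : S.Opens} (h : W' ≤ W) (v : Vec f P W) (a : I) :
    vres h v a = rX (piece_mono a h) (v a) := rfl

theorem vres_vres {W W' W'' : S.Opens} (h : W' ≤ W) (h' : W'' ≤ W') (v : Vec f P W) :
    vres h' (vres h v) = vres (h'.trans h) v := funext fun _ => rX_rX _ _ _

theorem vres_self {W : S.Opens} (h : W ≤ W) (v : Vec f P W) : vres h v = v := funext fun _ => rX_self _ _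

variable (f P) in
/-- The functions of the base on a piece. -/
def base (a : I) (W : S.Opens) : Γ(S, W) →+* Γ(X, piece f P a W) :=
  (f.appLE W (piece f P a W) inf_le_right).hom

theorem base_res (a : I) {W W' : S.Opens} (h : W' ≤ W) (r : Γ(S, W)) :
    rX (piece_mono a h) (base f P a W r) = base f P a W' (rX h r) := by
  simp only [rX, base]
  rw [← CommRingCat.comp_apply, ← CommRingCat.comp_apply, Scheme.Hom.appLE_map, Scheme.Hom.map_appLE]

/-- A combination of vectors. -/
def lin {W : S.Opens} {n : ℕ} (l : Fin n → Γ(S, W)) (v : Fin n → Vec f P W) : Vec f P W :=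
  fun a => ∑ k, base f P a W (l k) * v k a

theorem vres_lin {W W' : S.Opens} (h : W' ≤ W) {n : ℕ} (l : Fin n → Γ(S, W)) (v : Fin n → Vec f P W) :
    vres h (lin l v) = lin (fun k => rX h (l k)) fun k => vres h (v k) := by
  funext a
  simp [vres, lin, map_sum, base_res a h]

/-- Evaluation at `t` times the vectors. -/
def ev {n : ℕ} (W : S.Opens) (v : Fin n → Vec f P W) : MvPolynomial (Fin n) Γ(S, W) →+* Amb f P W :=
  Pi.ringHom fun a => eval₂Hom ((PowerSeries.C).comp (base f P a W))
    fun k => PowerSeries.X * PowerSeries.C (v k a)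

theorem ev_apply {n : ℕ} (W : S.Opens) (v : Fin n → Vec f P W) (p : MvPolynomial (Fin n) Γ(S, W)) (a : I) :
    ev W v p a = eval₂Hom ((PowerSeries.C).comp (base f P a W))
      (fun k => PowerSeries.X * PowerSeries.C (v k a)) p := rfl

/-- Evaluation at the vectors, on a piece. -/
def evalAt {n : ℕ} (W : S.Opens) (v : Fin n → Vec f P W) (a : I) :
    MvPolynomial (Fin n) Γ(S, W) →+* Γ(X, piece f P a W) :=
  eval₂Hom (base f P a W) fun k => v k a

theorem ev_of_isHomogeneous {n : ℕ} (W : S.Opens) (v : Fin n → Vec f P W) {p : MvPolynomial (Fin n) Γ(S, W)}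
    {m : ℕ} (hp : p.IsHomogeneous m) (a : I) :
    ev W v p a = PowerSeries.X ^ m * PowerSeries.C (evalAt W v a p) := by
  show eval₂Hom ((PowerSeries.C).comp (base f P a W)) (fun k => PowerSeries.X * PowerSeries.C (v k a)) p = _
  rw [ProjSpace.Charts.eval₂Hom_mul_of_isHomogeneous _ _ _ hp]
  congr 1
  have : eval₂Hom ((PowerSeries.C).comp (base f P a W)) (fun k => PowerSeries.C (v k a)) =
      (PowerSeries.C).comp (evalAt W v a) := by
    apply MvPolynomial.ringHom_ext <;> intro k <;> simp [evalAt]
  exact DFunLike.congr_fun this p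

theorem coeff_ev {n : ℕ} (W : S.Opens) (v : Fin n → Vec f P W) (p : MvPolynomial (Fin n) Γ(S, W)) (a : I)
    (d : ℕ) : PowerSeries.coeff d (ev W v p a) = evalAt W v a (homogeneousComponent d p) := by
  classical
  conv_lhs => rw [← sum_homogeneousComponent p, map_sum, Finset.sum_apply, map_sum]
  rw [Finset.sum_eq_single d]
  · rw [ev_of_isHomogeneous W v (homogeneousComponent_isHomogeneous d p), PowerSeries.coeff_X_pow_mul',
      if_pos le_rfl, Nat.sub_self, PowerSeries.coeff_zero_C]
  · intro e _ he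
    rw [ev_of_isHomogeneous W v (homogeneousComponent_isHomogeneous e p), PowerSeries.coeff_X_pow_mul']
    split_ifs with h
    · rw [PowerSeries.coeff_C, if_neg (by omega)]
    · rfl
  · intro hd
    rw [homogeneousComponent_eq_zero d p (by simpa using hd)]
    simp

theorem coeff_ev_eq_zero {n : ℕ} {W : S.Opens} (v : Fin n → Vec f P W) (p : MvPolynomial (Fin n) Γ(S, W)) (a : I)
    {d : ℕ} (hd : p.totalDegree < d) : PowerSeries.coeff d (ev W v p a) = 0 := by
  rw [coeff_ev, homogeneousComponent_eq_zero d p hd, map_zero]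

/-- Restriction of polynomials. -/
def polyRes {n : ℕ} {W W' : S.Opens} (h : W' ≤ W) :
    MvPolynomial (Fin n) Γ(S, W) →+* MvPolynomial (Fin n) Γ(S, W') :=
  MvPolynomial.map (rX h)

theorem ev_res {n : ℕ} {W W' : S.Opens} (h : W' ≤ W) (v : Fin n → Vec f P W) (p : MvPolynomial (Fin n) Γ(S, W)) :
    ares h (ev W v p) = ev W' (fun k => vres h (v k)) (polyRes h p) := by
  have : (ares h).comp (ev W v) = (ev W' (fun k => vres h (v k))).comp (polyRes h) := by
    apply MvPolynomial.ringHom_ext
    · intro r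
      funext a
      simp [ev_apply, ares_apply, polyRes, base_res a h r]
    · intro j
      funext a
      simp [ev_apply, ares_apply, polyRes, vres]
  exact DFunLike.congr_fun this p

/-- Substitution for combinations of vectors. -/
def subst {W : S.Opens} {n m : ℕ} (l : Fin m → Fin n → Γ(S, W)) :
    MvPolynomial (Fin m) Γ(S, W) →+* MvPolynomial (Fin n) Γ(S, W) :=
  eval₂Hom C fun j => ∑ k, C (l j k) * MvPolynomial.X k

theorem ev_lin {W : S.Opens} {n m : ℕ} (l : Fin m → Fin n → Γ(S, W)) (v : Fin n → Vec f P W)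
    (p : MvPolynomial (Fin m) Γ(S, W)) : ev W (fun j => lin (l j) v) p = ev W v (subst l p) := by
  have : ev W (fun j => lin (l j) v) = (ev W v).comp (subst l) := by
    apply MvPolynomial.ringHom_ext
    · intro r
      funext a
      simp [ev_apply, subst]
    · intro j
      funext a
      simp only [ev_apply, RingHom.comp_apply, subst, eval₂Hom_X', lin, map_sum, map_mul, eval₂Hom_C]
      rw [Finset.mul_sum]
      exact Finset.sum_congr rfl fun k _ => by ring
  exact DFunLike.congr_fun this p

/-- The constant series of a function of the base. -/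
def strA (W : S.Opens) : Γ(S, W) →+* Amb f P W :=
  Pi.ringHom fun a => (PowerSeries.C).comp (base f P a W)

theorem strA_apply {W : S.Opens} (r : Γ(S, W)) (a : I) :
    strA (f := f) (P := P) W r a = PowerSeries.C (base f P a W r) := rfl

theorem coeff_strA {W : S.Opens} (r : Γ(S, W)) (a : I) (d : ℕ) :
    PowerSeries.coeff d (strA (f := f) (P := P) W r a) = if d = 0 then base f P a W r else 0 :=
  PowerSeries.coeff_C _ _

theorem ev_C {n : ℕ} (W : S.Opens) (v : Fin n → Vec f P W) (r : Γ(S, W)) : ev W v (C r) = strA W r := by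
  funext a
  simp [ev_apply, strA_apply]

theorem coeff_strA_mul {W : S.Opens} (r : Γ(S, W)) (s : Amb f P W) (a : I) (d : ℕ) :
    PowerSeries.coeff d ((strA (f := f) (P := P) W r * s) a) = base f P a W r * PowerSeries.coeff d (s a) := by
  rw [Pi.mul_apply]
  exact PowerSeries.coeff_C_mul _ _ _

theorem ares_strA {W W' : S.Opens} (h : W' ≤ W) (r : Γ(S, W)) :
    ares (f := f) (P := P) h (strA W r) = strA W' (rX h r) :=
  amb_ext fun a d => by
    rw [coeff_ares, coeff_strA, coeff_strA]
    split_ifs
    · exact base_res a h r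
    · exact map_zero _

end Groth.Agent.Lib.PProj
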