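import Groth.Agent.Lib.QCoh.Localizing
import Groth.Agent.Lib.PProj.Amb
import Groth.Agent.Lib.TensorMod.Gen
import Mathlib.AlgebraicGeometry.Morphisms.QuasiSeparated

/-!
# Families of sections with the same span

Finite families of sections over the preimages of affine opens, up to the span over the base: a family on an affine
open extends to compatible families on any finite affine cover of a quasi-separated base.
-/

noncomputable section

universe u

open CategoryTheory AlgebraicGeometry TopologicalSpace Opposite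

namespace Groth.Agent.Lib.PProj.Span

open TensorMod.Dual

variable {X S : Scheme.{u}} (f : X ⟶ S) (M : X.Modules)

/-- Restriction along the base. -/
abbrev rM {V U : S.Opens} (h : V ≤ U) : Γ(M, f ⁻¹ᵁ U) →+ Γ(M, f ⁻¹ᵁ V) :=
  QCoh.Localizing.res M (f.preimage_mono h)

theorem rM_rM {U V W : S.Opens} (h : V ≤ U) (h' : W ≤ V) (m : Γ(M, f ⁻¹ᵁ U)) :
    rM f M h' (rM f M h m) = rM f M (h'.trans h) m := QCoh.Localizing.res_res _ _ _

theorem rM_self {U : S.Opens} (h : U ≤ U) (m : Γ(M, f ⁻¹ᵁ U)) : rM f M h m = m :=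
  QCoh.Localizing.res_self _ _

theorem resR_app {V U : S.Opens} (h : V ≤ U) (r : Γ(S, U)) :
    QCoh.Localizing.resR (f.preimage_mono h) (f.app U r) = f.app V (rX h r) :=
  congr($((f.naturality (homOfLE h).op).symm) r)

theorem rM_smul {V U : S.Opens} (h : V ≤ U) (r : Γ(S, U)) (m : Γ(M, f ⁻¹ᵁ U)) :
    rM f M h (f.app U r • m) = f.app V (rX h r) • rM f M h m := by
  rw [rM, QCoh.Localizing.res_smul, resR_app]

variable {f M} {U U' V W : S.Opens} {n n' : ℕ}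

/-- A combination of a family over a smaller open. -/
def InSpan (G : Fin n → Γ(M, f ⁻¹ᵁ U)) (hV : V ≤ U) (m : Γ(M, f ⁻¹ᵁ V)) : Prop :=
  ∃ l : Fin n → Γ(S, V), m = ∑ k, f.app V (l k) • rM f M hV (G k)

theorem InSpan.res {G : Fin n → Γ(M, f ⁻¹ᵁ U)} {hV : V ≤ U} {m : Γ(M, f ⁻¹ᵁ V)} (h : InSpan G hV m)
    (hW : W ≤ V) : InSpan G (hW.trans hV) (rM f M hW m) := by
  obtain ⟨l, rfl⟩ := h
  exact ⟨fun k => rX hW (l k), by simp only [map_sum, rM_smul, rM_rM]⟩

theorem InSpan.zero (G : Fin n → Γ(M, f ⁻¹ᵁ U)) (hV : V ≤ U) : InSpan G hV 0 := ⟨0, by simp⟩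

theorem InSpan.add {G : Fin n → Γ(M, f ⁻¹ᵁ U)} {hV : V ≤ U} {m m' : Γ(M, f ⁻¹ᵁ V)} (h : InSpan G hV m)
    (h' : InSpan G hV m') : InSpan G hV (m + m') := by
  obtain ⟨l, rfl⟩ := h
  obtain ⟨l', rfl⟩ := h'
  exact ⟨l + l', by simp [add_smul, Finset.sum_add_distrib]⟩

theorem InSpan.smul {G : Fin n → Γ(M, f ⁻¹ᵁ U)} {hV : V ≤ U} {m : Γ(M, f ⁻¹ᵁ V)} (h : InSpan G hV m)
    (r : Γ(S, V)) : InSpan G hV (f.app V r • m) := by
  obtain ⟨l, rfl⟩ := h
  exact ⟨fun k => r * l k, by simp [Finset.smul_sum, mul_smul]⟩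

theorem InSpan.sum {ι : Type*} (s : Finset ι) {G : Fin n → Γ(M, f ⁻¹ᵁ U)} {hV : V ≤ U}
    {m : ι → Γ(M, f ⁻¹ᵁ V)} (h : ∀ i ∈ s, InSpan G hV (m i)) : InSpan G hV (∑ i ∈ s, m i) := by
  classical
  induction s using Finset.induction_on with
  | empty => simpa using InSpan.zero G hV
  | insert a s ha ih =>
    rw [Finset.sum_insert ha]
    exact (h a (Finset.mem_insert_self a s)).add (ih fun i hi => h i (Finset.mem_insert_of_mem hi))

theorem InSpan.mem (G : Fin n → Γ(M, f ⁻¹ᵁ U)) (hV : V ≤ U) (k : Fin n) : InSpan G hV (rM f M hV (G k)) := by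
  classical
  refine ⟨Pi.single k 1, ?_⟩
  rw [Finset.sum_eq_single k (fun b _ hb => by simp [hb]) (by simp)]
  simp

theorem InSpan.trans {G : Fin n → Γ(M, f ⁻¹ᵁ U)} {G' : Fin n' → Γ(M, f ⁻¹ᵁ U')} {hV : V ≤ U} {hV' : V ≤ U'}
    {m : Γ(M, f ⁻¹ᵁ V)} (h : InSpan G' hV' m) (hG : ∀ k, InSpan G hV (rM f M hV' (G' k))) : InSpan G hV m := by
  obtain ⟨l, rfl⟩ := h
  exact InSpan.sum _ fun k _ => (hG k).smul _

theorem InSpan.of_subfamily {G : Fin n → Γ(M, f ⁻¹ᵁ U)} {G' : Fin n' → Γ(M, f ⁻¹ᵁ U)} (ι : Fin n → Fin n')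
    (hι : ∀ k, G' (ι k) = G k) {hV : V ≤ U} {m : Γ(M, f ⁻¹ᵁ V)} (h : InSpan G hV m) : InSpan G' hV m :=
  h.trans fun k => hι k ▸ InSpan.mem G' hV (ι k)

/-- Locally a combination. -/
def LSpan (G : Fin n → Γ(M, f ⁻¹ᵁ U)) (hV : V ≤ U) (m : Γ(M, f ⁻¹ᵁ V)) : Prop :=
  ∀ y ∈ V, ∃ (W : S.Opens) (h : W ≤ V), y ∈ W ∧ InSpan G (h.trans hV) (rM f M h m)

theorem LSpan.res {G : Fin n → Γ(M, f ⁻¹ᵁ U)} {hV : V ≤ U} {m : Γ(M, f ⁻¹ᵁ V)} (h : LSpan G hV m)
    (hW : W ≤ V) : LSpan G (hW.trans hV) (rM f M hW m) := fun y hy => by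
  obtain ⟨O, hO, hyO, hs⟩ := h y (hW hy)
  refine ⟨O ⊓ W, inf_le_right, ⟨hyO, hy⟩, ?_⟩
  have := hs.res (inf_le_left : O ⊓ W ≤ O)
  simp only [rM_rM] at this ⊢
  exact this

variable [M.IsQuasicoherent] [QuasiCompact f] [QuasiSeparated f]

theorem localizes (hU : IsAffineOpen U) (F : Γ(X, f ⁻¹ᵁ U)) : QCoh.Localizing.Localizes M F :=
  QCoh.Localizing.localizes_of_qcqs M (QuasiCompact.isCompact_preimage (f := f) _ U.2 hU.isCompact)
    (Scheme.Hom.isQuasiSeparated_preimage f hU.isQuasiSeparated) F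

theorem key {U₀ : S.Opens} {G : Fin n → Γ(M, f ⁻¹ᵁ U₀)} (hU : IsAffineOpen U) (hle : U ≤ U₀)
    (g : Γ(S, U)) (m : Γ(M, f ⁻¹ᵁ U))
    (h : InSpan G ((S.basicOpen_le g).trans hle) (rM f M (S.basicOpen_le g) m)) :
    ∃ k : ℕ, InSpan G hle (f.app U g ^ k • m) := by
  classical
  obtain ⟨l, hl⟩ := h
  let := (S.presheaf.map (homOfLE (S.basicOpen_le g)).op).hom.toAlgebra
  haveI : IsLocalization.Away g Γ(S, S.basicOpen g) := hU.isLocalization_basicOpen g
  have hsur : ∀ k, ∃ (e : ℕ) (w : Γ(S, U)), l k * rX (S.basicOpen_le g) g ^ e = rX (S.basicOpen_le g) w :=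
    fun k => IsLocalization.Away.surj g (l k)
  choose e w hw using hsur
  let E := Finset.univ.sup e
  let m' := f.app U g ^ E • m - ∑ k, f.app U (g ^ (E - e k) * w k) • rM f M hle (G k)
  have hm' : rM f M (S.basicOpen_le g) m' = 0 := by
    simp only [m', map_sub, map_sum, rM_smul, rM_rM, ← map_pow]
    rw [sub_eq_zero, hl, Finset.smul_sum]
    refine Finset.sum_congr rfl fun k _ => ?_
    rw [smul_smul, ← map_mul]
    refine congrArg (fun r => f.app (S.basicOpen g) r • _) ?_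
    obtain ⟨d, hd⟩ := Nat.exists_eq_add_of_le (Finset.le_sup (f := e) (Finset.mem_univ k))
    have hw' : l k * rX (S.basicOpen_le g) g ^ e k = rX (S.basicOpen_le g) (w k) := hw k
    rw [map_mul, ← hw', show E = e k + d from hd, Nat.add_sub_cancel_left, map_pow, map_pow]
    ring
  obtain ⟨d, hd⟩ := (localizes hU (f.app U g)).sep.exists_of_eq (Scheme.preimage_basicOpen f g)
    (f.preimage_mono (S.basicOpen_le g)) m' hm'
  refine ⟨d + E, ?_⟩
  rw [smul_sub, smul_smul, ← pow_add, sub_eq_zero] at hd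
  rw [hd, ← map_pow]
  exact (InSpan.sum _ fun k _ => (InSpan.mem G hle k).smul _).smul _

theorem LSpan.inSpan {U₀ : S.Opens} {G : Fin n → Γ(M, f ⁻¹ᵁ U₀)} (hU : IsAffineOpen U) {hle : U ≤ U₀}
    {m : Γ(M, f ⁻¹ᵁ U)} (h : LSpan G hle m) : InSpan G hle m := by
  let J : Ideal Γ(S, U) := {
    carrier := {r | InSpan G hle (f.app U r • m)}
    add_mem' := fun {a b} ha hb => by
      show InSpan G hle (f.app U (a + b) • m)
      rw [map_add, add_smul]
      exact ha.add hb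
    zero_mem' := by simpa using InSpan.zero G hle
    smul_mem' := fun c r hr => by
      show InSpan G hle (f.app U (c * r) • m)
      rw [map_mul, mul_smul]
      exact hr.smul c }
  have hc : ∀ y : U, ∃ g : Γ(S, U), g ∈ J ∧ (y : S) ∈ S.basicOpen g := fun y => by
    obtain ⟨W, hW, hyW, hs⟩ := h y.1 y.2
    obtain ⟨g, hg, hyg⟩ := hU.exists_basicOpen_le ⟨y.1, hyW⟩ y.2
    have h1 := hs.res hg
    simp only [rM_rM] at h1
    obtain ⟨k, hk⟩ := key hU hle g m h1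
    refine ⟨g ^ (k + 1), ?_, ?_⟩
    · show InSpan G hle (f.app U (g ^ (k + 1)) • m)
      rw [map_pow, pow_succ', mul_smul]
      exact hk.smul g
    · rw [Scheme.basicOpen_pow S g k.succ_pos]
      exact hyg
  choose g hg hyg using hc
  have htop : Ideal.span (Set.range g) = ⊤ := by
    rw [← hU.self_le_iSup_basicOpen_iff]
    intro y hy
    exact Opens.mem_iSup.2 ⟨⟨g ⟨y, hy⟩, ⟨y, hy⟩, rfl⟩, hyg ⟨y, hy⟩⟩
  have h1 : (1 : Γ(S, U)) ∈ J :=
    Ideal.span_le.2 (Set.range_subset_iff.2 hg) (htop.ge Submodule.mem_top)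
  simpa [J] using (show InSpan G hle (f.app U 1 • m) from h1)

/-- The families have locally the same span on the overlap, in one direction. -/
def Le (G' : Fin n' → Γ(M, f ⁻¹ᵁ U')) (G : Fin n → Γ(M, f ⁻¹ᵁ U)) : Prop :=
  ∀ k, LSpan G (inf_le_left : U ⊓ U' ≤ U) (rM f M inf_le_right (G' k))

theorem Le.refl (G : Fin n → Γ(M, f ⁻¹ᵁ U)) : Le G G := fun k y hy => by
  refine ⟨U ⊓ U, le_rfl, hy, ?_⟩
  rw [rM_self]
  exact InSpan.mem G inf_le_left k

variable [QuasiSeparatedSpace S]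

/-- One more open. -/
theorem exists_step {κ : Type*} [Finite κ] (O : κ → S.Opens) (hO : ∀ i, IsAffineOpen (O i)) (m : κ → ℕ)
    (G : ∀ i, Fin (m i) → Γ(M, f ⁻¹ᵁ O i)) (hG : ∀ i j, Le (G i) (G j)) (hU : IsAffineOpen U) :
    ∃ (n : ℕ) (G' : Fin n → Γ(M, f ⁻¹ᵁ U)), ∀ i, Le G' (G i) ∧ Le (G i) G' := by
  classical
  have hfin : ∀ i, ∃ t : Finset Γ(S, U), (∀ h ∈ t, S.basicOpen h ≤ O i) ∧
      ∀ y ∈ O i ⊓ U, ∃ h ∈ t, y ∈ S.basicOpen h := fun i => by
    have hc : IsCompact ((O i : Set S) ∩ U) :=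
      QuasiSeparatedSpace.inter_isCompact _ _ (O i).2 (hO i).isCompact U.2 hU.isCompact
    obtain ⟨t, ht⟩ := hc.elim_finite_subcover (fun h : {h : Γ(S, U) // S.basicOpen h ≤ O i} => (S.basicOpen h.1 : Set S))
      (fun h => (S.basicOpen h.1).isOpen) fun y hy => by
        obtain ⟨h, hle, hyh⟩ := hU.exists_basicOpen_le (V := O i) ⟨y, hy.1⟩ hy.2
        exact Set.mem_iUnion.2 ⟨⟨h, hle⟩, hyh⟩
    refine ⟨t.image Subtype.val, fun h hh => ?_, fun y hy => ?_⟩
    · obtain ⟨h', -, rfl⟩ := Finset.mem_image.1 hh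
      exact h'.2
    · obtain ⟨h, ht', hy'⟩ := Set.mem_iUnion₂.1 (ht hy)
      exact ⟨h.1, Finset.mem_image_of_mem _ ht', hy'⟩
  choose t ht hcov using hfin
  haveI := Fintype.ofFinite κ
  let Idx := Σ i : κ, (t i) × Fin (m i)
  have hgen : ∀ q : Idx, ∃ (e : ℕ) (x : Γ(M, f ⁻¹ᵁ U)),
      (∀ j, LSpan (G j) (inf_le_left : O j ⊓ U ≤ O j) (rM f M inf_le_right x)) ∧
      rM f M (S.basicOpen_le (q.2.1 : Γ(S, U))) x =
        f.app (S.basicOpen (q.2.1 : Γ(S, U))) (rX (S.basicOpen_le _) (q.2.1 : Γ(S, U))) ^ e •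
          rM f M (ht q.1 _ q.2.1.2) (G q.1 q.2.2) := by
    rintro ⟨i, ⟨h, hh⟩, k⟩
    obtain ⟨e, x, hx⟩ := (localizes hU (f.app U h)).ext'.exists_of_eq (Scheme.preimage_basicOpen f h)
      (f.preimage_mono (S.basicOpen_le h)) (rM f M (ht i h hh) (G i k))
    have hx' : rM f M (S.basicOpen_le h) x =
        f.app (S.basicOpen h) (rX (S.basicOpen_le h) h) ^ e • rM f M (ht i h hh) (G i k) := by
      rw [← resR_app]
      exact hx
    have hk : ∀ (j : κ) (h' : t j), ∃ d, InSpan (G j) (ht j _ h'.2)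
        (f.app (S.basicOpen (h' : Γ(S, U))) (rX (S.basicOpen_le _) h) ^ d •
          rM f M (S.basicOpen_le (h' : Γ(S, U))) x) := fun j h' => by
      let g := rX (S.basicOpen_le (h' : Γ(S, U))) h
      have hgle : S.basicOpen g ≤ S.basicOpen h :=
        (S.basicOpen_res h (homOfLE (S.basicOpen_le _)).op).le.trans inf_le_right
      refine key (hU.basicOpen _) (ht j _ h'.2) g _ ?_
      refine LSpan.inSpan ((hU.basicOpen _).basicOpen g) fun y hy => ?_
      obtain ⟨W, hW, hyW, hs⟩ := hG i j k y ⟨ht j _ h'.2 (S.basicOpen_le g hy), ht i h hh (hgle hy)⟩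
      refine ⟨W ⊓ S.basicOpen g, inf_le_right, ⟨hyW, hy⟩, ?_⟩
      have h1 := (hs.res (inf_le_left : W ⊓ S.basicOpen g ≤ W)).smul
        (rX (inf_le_right.trans hgle : W ⊓ S.basicOpen g ≤ S.basicOpen h) (rX (S.basicOpen_le h) h ^ e))
      have h2 := congrArg (rM f M (inf_le_right.trans hgle : W ⊓ S.basicOpen g ≤ S.basicOpen h)) hx'
      simp only [← map_pow, rM_smul, rM_rM] at h1 h2 ⊢
      rw [← h2] at h1
      exact h1
    choose d hd using hk
    let K := Finset.univ.sup fun p : Σ j : κ, t j => d p.1 p.2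
    refine ⟨K + e, f.app U h ^ K • x, fun j y hy => ?_, ?_⟩
    · obtain ⟨h', hh', hyh⟩ := hcov j y hy
      obtain ⟨c, hc⟩ := Nat.exists_eq_add_of_le
        (Finset.le_sup (f := fun p : Σ j : κ, t j => d p.1 p.2) (Finset.mem_univ ⟨j, h', hh'⟩))
      refine ⟨S.basicOpen h', le_inf (ht j h' hh') (S.basicOpen_le h'), hyh, ?_⟩
      have h1 := (hd j ⟨h', hh'⟩).smul (rX (S.basicOpen_le h') h ^ c)
      simp only [← map_pow, rM_smul, rM_rM, rX_rX, smul_smul, ← map_mul] at h1 ⊢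
      rw [show K = d j ⟨h', hh'⟩ + c from hc, show h ^ (d j ⟨h', hh'⟩ + c) = h ^ c * h ^ d j ⟨h', hh'⟩ by ring]
      exact h1
    · rw [← map_pow, rM_smul, hx', smul_smul, map_pow, map_pow, ← pow_add]
  choose e x hxN hx using hgen
  let E := Fintype.equivFin Idx
  refine ⟨_, fun q => x (E.symm q), fun i => ⟨fun q => hxN (E.symm q) i, fun k y hy => ?_⟩⟩
  obtain ⟨h, hh, hyh⟩ := hcov i y ⟨hy.2, hy.1⟩
  refine ⟨S.basicOpen h, le_inf (S.basicOpen_le h) (ht i h hh), hyh, ?_⟩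
  obtain ⟨v, hv⟩ : ∃ v : Γ(S, S.basicOpen h), v * rX (S.basicOpen_le h) h = 1 :=
    (S.toRingedSpace.isUnit_res_basicOpen h).exists_left_inv
  let q : Idx := ⟨i, ⟨h, hh⟩, k⟩
  have h1 := (InSpan.mem (fun q => x (E.symm q)) (S.basicOpen_le h) (E q)).smul (v ^ e q)
  have hve : v ^ e q * rX (S.basicOpen_le h) h ^ e q = 1 := by rw [← mul_pow, hv, one_pow]
  rw [Equiv.symm_apply_apply, hx q, ← map_pow, smul_smul, ← map_mul, hve, map_one, one_smul] at h1
  simp only [rM_rM] at h1 ⊢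
  exact h1

/-- A family on one member of a finite affine cover extends compatibly to all of them. -/
theorem exists_extension {κ : Type*} [Finite κ] (O : κ → S.Opens) (hO : ∀ i, IsAffineOpen (O i)) (i₀ : κ)
    {n₀ : ℕ} (G₀ : Fin n₀ → Γ(M, f ⁻¹ᵁ O i₀)) :
    ∃ (m : κ → ℕ) (G : ∀ i, Fin (m i) → Γ(M, f ⁻¹ᵁ O i)) (ι : Fin n₀ → Fin (m i₀)),
      (∀ k, G i₀ (ι k) = G₀ k) ∧ ∀ i j, Le (G i) (G j) := by
  classical
  haveI := Fintype.ofFinite κ
  let Φ := fun i : κ => Σ n : ℕ, (Fin n → Γ(M, f ⁻¹ᵁ O i))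
  suffices H : ∀ s : Finset κ, ∃ F : ∀ i, Φ i, F i₀ = ⟨n₀, G₀⟩ ∧
      ∀ i ∈ insert i₀ s, ∀ j ∈ insert i₀ s, Le (F i).2 (F j).2 by
    obtain ⟨F, h0, hF⟩ := H Finset.univ
    have hι : ∃ ι : Fin n₀ → Fin (F i₀).1, ∀ k, (F i₀).2 (ι k) = G₀ k := by
      rw [h0]; exact ⟨id, fun k => rfl⟩
    obtain ⟨ι, hι⟩ := hι
    exact ⟨fun i => (F i).1, fun i => (F i).2, ι, hι, fun i j => hF i (by simp) j (by simp)⟩
  intro s
  induction s using Finset.induction_on with
  | empty =>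
    refine ⟨Function.update (fun i => ⟨0, Fin.elim0⟩) i₀ ⟨n₀, G₀⟩, Function.update_self _ _ _, ?_⟩
    intro i hi j hj
    rw [insert_empty_eq, Finset.mem_singleton] at hi hj
    subst hi hj
    exact Le.refl _
  | insert a s has ih =>
    obtain ⟨F, h0, hF⟩ := ih
    by_cases ha : a ∈ insert i₀ s
    · refine ⟨F, h0, fun i hi j hj => hF i ?_ j ?_⟩
      all_goals simp only [Finset.mem_insert] at *
      all_goals aesop
    · let s' := insert i₀ s
      obtain ⟨n, G', hG'⟩ := exists_step (fun i : s' => O i.1) (fun i => hO i.1) (fun i => (F i.1).1)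
        (fun i => (F i.1).2) (fun i j => hF i.1 i.2 j.1 j.2) (hO a)
      have hne : i₀ ≠ a := fun h => ha (h ▸ Finset.mem_insert_self _ _)
      refine ⟨Function.update F a ⟨n, G'⟩, by rw [Function.update_of_ne hne]; exact h0, fun i hi j hj => ?_⟩
      have key : ∀ i, i ∈ insert i₀ (insert a s) → i = a ∨ (i ≠ a ∧ i ∈ insert i₀ s) := fun i hi => by
        by_cases h : i = a
        · exact Or.inl h
        · simp only [Finset.mem_insert] at hi ⊢
          exact Or.inr ⟨h, hi.imp_right fun h' => h'.resolve_left h⟩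
      rcases key i hi with rfl | ⟨hia, hi'⟩ <;> rcases key j hj with rfl | ⟨hja, hj'⟩
      · exact Le.refl _
      · rw [Function.update_self, Function.update_of_ne hja]
        exact (hG' ⟨j, hj'⟩).1
      · rw [Function.update_self, Function.update_of_ne hia]
        exact (hG' ⟨i, hi'⟩).2
      · rw [Function.update_of_ne hia, Function.update_of_ne hja]
        exact hF i hi' j hj'

/-- Given families on a finite affine cover, there are compatible families containing them. -/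
theorem exists_compatible {κ : Type*} [Finite κ] (O : κ → S.Opens) (hO : ∀ i, IsAffineOpen (O i)) (n : κ → ℕ)
    (G₀ : ∀ i, Fin (n i) → Γ(M, f ⁻¹ᵁ O i)) :
    ∃ (m : κ → ℕ) (G : ∀ i, Fin (m i) → Γ(M, f ⁻¹ᵁ O i)) (ι : ∀ i, Fin (n i) → Fin (m i)),
      (∀ i k, G i (ι i k) = G₀ i k) ∧ ∀ i j, Le (G i) (G j) := by
  classical
  haveI := Fintype.ofFinite κ
  choose m G ι hι hG using fun i₀ => exists_extension (f := f) (M := M) O hO i₀ (G₀ i₀)
  let E : ∀ β, (Σ i₀ : κ, Fin (m i₀ β)) ≃ Fin (Fintype.card (Σ i₀ : κ, Fin (m i₀ β))) := fun β => Fintype.equivFin _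
  refine ⟨fun β => Fintype.card (Σ i₀ : κ, Fin (m i₀ β)), fun β q => G ((E β).symm q).1 β ((E β).symm q).2,
    fun β k => E β ⟨β, ι β k⟩, fun β k => ?_, fun β γ q y hy => ?_⟩
  · beta_reduce
    rw [Equiv.symm_apply_apply]
    exact hι β k
  · obtain ⟨W, hW, hyW, hs⟩ := hG ((E β).symm q).1 β γ ((E β).symm q).2 y hy
    refine ⟨W, hW, hyW, hs.of_subfamily (fun k => E γ ⟨((E β).symm q).1, k⟩) fun k => ?_⟩
    beta_reduce
    rw [Equiv.symm_apply_apply]

end Groth.Agent.Lib.PProj.Span
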