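import Groth.Agent.Lib.PProj.FromProjBasic
import Groth.Agent.Lib.HProj.Pt
import Mathlib.RingTheory.MvPolynomial.Ideal

/-!
# A projective morphism has coordinate data
-/

noncomputable section

universe u

open CategoryTheory AlgebraicGeometry TopologicalSpace Opposite HomogeneousLocalization

namespace Groth.Agent.Lib.PProj.FromProj

section frac

variable {A : Type u} [CommRing A] (𝒜 : ℕ → AddSubgroup A) [GradedRing 𝒜]

/-- The fraction `s/t`. -/
def frac {t : A} (ht : t ∈ 𝒜 1) (s : A) (hs : s ∈ 𝒜 1) : Away 𝒜 t := Away.mk 𝒜 ht 1 s (by simpa using hs)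

theorem isUnit_loc (t : A) : IsUnit (algebraMap A (Localization.Away t) t) :=
  IsLocalization.Away.algebraMap_isUnit t

theorem val_mk_mul {t : A} (ht : t ∈ 𝒜 1) {d : ℕ} {b : A} (hb : b ∈ 𝒜 (d • 1)) :
    (Away.mk 𝒜 ht d b hb).val * algebraMap A (Localization.Away t) t ^ d = algebraMap A (Localization.Away t) b := by
  rw [Away.val_mk, Localization.mk_eq_mk', ← map_pow]
  exact IsLocalization.mk'_spec (Localization.Away t) b (⟨t ^ d, d, rfl⟩ : Submonoid.powers t)

theorem val_frac_mul {t : A} (ht : t ∈ 𝒜 1) (s : A) (hs : s ∈ 𝒜 1) :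
    (frac 𝒜 ht s hs).val * algebraMap A (Localization.Away t) t = algebraMap A (Localization.Away t) s := by
  have h := val_mk_mul 𝒜 ht (d := 1) (b := s) (by simpa using hs)
  rwa [pow_one] at h

theorem eq_frac {t : A} (ht : t ∈ 𝒜 1) {s : A} (hs : s ∈ 𝒜 1) {z : Away 𝒜 t}
    (h : z.val * algebraMap A (Localization.Away t) t = algebraMap A (Localization.Away t) s) :
    z = frac 𝒜 ht s hs :=
  val_injective _ ((isUnit_loc t).mul_left_injective (h.trans (val_frac_mul 𝒜 ht s hs).symm))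

theorem val_fromZero (t : A) (r : 𝒜 0) :
    (fromZeroRingHom 𝒜 (Submonoid.powers t) r).val = algebraMap A (Localization.Away t) (r : A) := by
  rw [← Localization.mk_one_eq_algebraMap]; rfl

theorem frac_self {t : A} (ht : t ∈ 𝒜 1) : frac 𝒜 ht t ht = 1 :=
  (eq_frac 𝒜 ht ht (by rw [HomogeneousLocalization.val_one, one_mul])).symm

theorem isLocalizationElem_eq {t g : A} (ht : t ∈ 𝒜 1) (hg : g ∈ 𝒜 1) :
    Away.isLocalizationElem ht hg = frac 𝒜 ht g hg := by
  apply HomogeneousLocalization.val_injective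
  simp [Away.isLocalizationElem, frac]

theorem awayMap_frac_mul {t g x : A} (ht : t ∈ 𝒜 1) {m : ℕ} (hg : g ∈ 𝒜 m) (hx : x = t * g) (s : A)
    (hs : s ∈ 𝒜 1) :
    (awayMap 𝒜 hg hx (frac 𝒜 ht s hs)).val * algebraMap A (Localization.Away x) t =
      algebraMap A (Localization.Away x) s := by
  have hu : IsUnit (algebraMap A (Localization.Away x) t) :=
    isUnit_of_dvd_unit (map_dvd _ ⟨_, hx⟩) (IsLocalization.Away.algebraMap_isUnit x)
  have h := HProj.Pt.awayHom_mk_mul 𝒜 ht (algebraMap A (Localization.Away x)) hu 1 (a := s) (by simpa using hs)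
  rw [pow_one, mul_comm] at h
  rw [val_awayMap]
  exact h

end frac

variable {P S : Scheme.{u}} {p : P ⟶ S} {𝒮 : RelProj.QCGrAlg S}
  (chart : ∀ (U : S.Opens) (hU : IsAffineOpen U), ((p ⁻¹ᵁ U : P.Opens) : Scheme.{u}) ≅ Proj (𝒮.deg U hU))
  (hP : RelProj.IsRelProj 𝒮 p chart)

theorem res_res_apply {U V W : S.Opens} (hU : IsAffineOpen U) (hV : IsAffineOpen V) (hW : IsAffineOpen W)
    (h : V ≤ U) (h' : W ≤ V) (x : 𝒮.presheaf.obj (op U)) :
    𝒮.res hV hW h' (𝒮.res hU hV h x) = 𝒮.res hU hW (h'.trans h) x := by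
  simp only [RelProj.QCGrAlg.res_apply]
  rw [← CommRingCat.comp_apply, ← Functor.map_comp]
  rfl

theorem res_str {U V : S.Opens} (hU : IsAffineOpen U) (hV : IsAffineOpen V) (h : V ≤ U) (r : Γ(S, U)) :
    𝒮.res hU hV h ((𝒮.str.app (op U)).hom r) = (𝒮.str.app (op V)).hom (rX h r) :=
  congr($((𝒮.str.naturality (homOfLE h).op).symm) r)

/-- `z` is the function `s/t` on the standard open of `t`. -/
def Fits {U : S.Opens} (hU : IsAffineOpen U) {t : 𝒮.presheaf.obj (op U)} (ht : t ∈ 𝒮.deg U hU 1)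
    (s : 𝒮.presheaf.obj (op U)) (z : Γ(P, Po chart U hU t)) : Prop :=
  (μ chart hU ht one_pos z).val * algebraMap _ (Localization.Away t) t = algebraMap _ (Localization.Away t) s

theorem Fits.eq {U : S.Opens} {hU : IsAffineOpen U} {t : 𝒮.presheaf.obj (op U)} {ht : t ∈ 𝒮.deg U hU 1}
    {s : 𝒮.presheaf.obj (op U)} {z z' : Γ(P, Po chart U hU t)} (h : Fits chart hU ht s z)
    (h' : Fits chart hU ht s z') : z = z' :=
  (μ_bijective chart hU ht one_pos).1 (val_injective _ ((isUnit_loc t).mul_left_injective (h.trans h'.symm)))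

theorem exists_fits {U : S.Opens} (hU : IsAffineOpen U) {t : 𝒮.presheaf.obj (op U)} (ht : t ∈ 𝒮.deg U hU 1)
    {s : 𝒮.presheaf.obj (op U)} (hs : s ∈ 𝒮.deg U hU 1) : ∃ z, Fits chart hU ht s z := by
  obtain ⟨z, hz⟩ := (μ_bijective chart hU ht one_pos).2 (frac _ ht s hs)
  exact ⟨z, by rw [Fits, hz]; exact val_frac_mul _ ht s hs⟩

include hP in
theorem Fits.res {U W : S.Opens} {hU : IsAffineOpen U} (hW : IsAffineOpen W) (b : Basic U W)
    {t : 𝒮.presheaf.obj (op U)} {ht : t ∈ 𝒮.deg U hU 1} {s : 𝒮.presheaf.obj (op U)} (hs : s ∈ 𝒮.deg U hU 1)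
    {z : Γ(P, Po chart U hU t)} (hz : Fits chart hU ht s z)
    {t' : 𝒮.presheaf.obj (op W)} (ht' : t' ∈ 𝒮.deg W hW 1) (et : t' = 𝒮.res hU hW b.le t)
    {s' : 𝒮.presheaf.obj (op W)} (es : s' = 𝒮.res hU hW b.le s)
    (h : Po chart W hW t' ≤ Po chart U hU t) : Fits chart hW ht' s' (rX h z) := by
  subst et es
  rw [Fits, μ_natural chart hU ht one_pos hW ht' one_pos _ (κ_res chart hU ht one_pos hP hW b) h z,
    eq_frac _ ht hs hz, frac, Away.map_mk]
  exact val_frac_mul _ ht' _ ((𝒮.res hU hW b.le).map_mem hs)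

include hP in
theorem Po_res_le {U W : S.Opens} (hU : IsAffineOpen U) (hW : IsAffineOpen W) (b : Basic U W)
    (t : 𝒮.presheaf.obj (op U)) : Po chart W hW (𝒮.res hU hW b.le t) ≤ Po chart U hU t :=
  (Po_res chart hP hU hW b t).le.trans inf_le_left

theorem basicOpen_fits {U : S.Opens} (hU : IsAffineOpen U) {t : 𝒮.presheaf.obj (op U)} (ht : t ∈ 𝒮.deg U hU 1)
    {s : 𝒮.presheaf.obj (op U)} (hs : s ∈ 𝒮.deg U hU 1) {z : Γ(P, Po chart U hU t)}
    (hz : Fits chart hU ht s z) : P.basicOpen z = Po chart U hU t ⊓ Po chart U hU s := by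
  have e : κ chart hU ht one_pos ⁻¹ᵁ P.basicOpen z = κ chart hU ht one_pos ⁻¹ᵁ Po chart U hU s := by
    rw [preimage_basicOpen_κ, κ_preimage_Po chart hU ht one_pos hs one_pos, eq_frac _ ht hs hz,
      isLocalizationElem_eq]
  have e' := congrArg (fun O => κ chart hU ht one_pos ''ᵁ O) e
  simp only [Scheme.Hom.image_preimage_eq_opensRange_inf, opensRange_κ] at e'
  rw [← e', inf_eq_right.2 (P.basicOpen_le z)]

/-- A standard open together with its index. -/
abbrev Idx (𝒮 : RelProj.QCGrAlg S) : Type u := Σ U : S.affineOpens, {t : 𝒮.presheaf.obj (op U.1) // t ∈ 𝒮.deg U.1 U.2 1}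

/-- The piece of an index. -/
abbrev Pc (a : Idx 𝒮) : P.Opens := Po chart a.1.1 a.1.2 a.2.1

include hP in
theorem Po_piece_le (a : Idx 𝒮) {V W : S.Opens} (hW : IsAffineOpen W) (b : Basic a.1.1 W) (b' : Basic V W) :
    Po chart W hW (𝒮.res a.1.2 hW b.le a.2.1) ≤ piece p (Pc chart) a V :=
  (Po_res chart hP a.1.2 hW b a.2.1).le.trans (inf_le_inf_left _ (p.preimage_mono b'.le))

/-- `z` is `s/t` on the piece `a` over `V`. -/
def Char (a : Idx 𝒮) {V : S.Opens} (hV : IsAffineOpen V) (s : 𝒮.presheaf.obj (op V))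
    (z : Γ(P, piece p (Pc chart) a V)) : Prop :=
  ∀ (W : S.Opens) (hW : IsAffineOpen W) (b : Basic a.1.1 W) (b' : Basic V W),
    Fits chart hW ((𝒮.res a.1.2 hW b.le).map_mem a.2.2) (𝒮.res hV hW b'.le s)
      (rX (Po_piece_le chart hP a hW b b') z)

include hP in
theorem piece_cover (a : Idx 𝒮) {V : S.Opens} (hV : IsAffineOpen V) :
    piece p (Pc chart) a V ≤ ⨆ q : {W : S.Opens // IsAffineOpen W ∧ Basic a.1.1 W ∧ Basic V W},
      Po chart q.1 q.2.1 (𝒮.res a.1.2 q.2.1 q.2.2.1.le a.2.1) := fun x hx => by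
  obtain ⟨W, hW, b, b', hy⟩ := exists_basic a.1.2 hV (Po_le chart a.1.2 _ hx.1) hx.2
  refine Opens.mem_iSup.2 ⟨⟨W, hW, b, b'⟩, ?_⟩
  rw [Po_res chart hP a.1.2 hW b a.2.1]
  exact ⟨hx.1, hy⟩

theorem Char.eq {a : Idx 𝒮} {V : S.Opens} {hV : IsAffineOpen V} {s : 𝒮.presheaf.obj (op V)}
    {z z' : Γ(P, piece p (Pc chart) a V)} (h : Char chart hP a hV s z) (h' : Char chart hP a hV s z') : z = z' :=
  eq_of_cover (fun q => Po_piece_le chart hP a q.2.1 q.2.2.1 q.2.2.2) (piece_cover chart hP a hV)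
    fun q => (h q.1 q.2.1 q.2.2.1 q.2.2.2).eq chart (h' q.1 q.2.1 q.2.2.1 q.2.2.2)

theorem exists_char (a : Idx 𝒮) {V : S.Opens} (hV : IsAffineOpen V) {s : 𝒮.presheaf.obj (op V)}
    (hs : s ∈ 𝒮.deg V hV 1) : ∃ z, Char chart hP a hV s z := by
  let J := {W : S.Opens // IsAffineOpen W ∧ Basic a.1.1 W ∧ Basic V W}
  let B : J → P.Opens := fun q => Po chart q.1 q.2.1 (𝒮.res a.1.2 q.2.1 q.2.2.1.le a.2.1)
  choose sf hsf using fun q : J => exists_fits chart q.2.1 ((𝒮.res a.1.2 q.2.1 q.2.2.1.le).map_mem a.2.2)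
    ((𝒮.res hV q.2.1 q.2.2.2.le).map_mem hs)
  obtain ⟨z, hz, -⟩ := P.sheaf.existsUnique_gluing' B (piece p (Pc chart) a V)
    (fun q => homOfLE (Po_piece_le chart hP a q.2.1 q.2.2.1 q.2.2.2)) (piece_cover chart hP a hV) sf
    fun q q' => by
      change rX (inf_le_left : B q ⊓ B q' ≤ B q) (sf q) = rX (inf_le_right : B q ⊓ B q' ≤ B q') (sf q')
      let K := {W : S.Opens // IsAffineOpen W ∧ Basic q.1 W ∧ Basic q'.1 W}
      let C : K → P.Opens := fun r => Po chart r.1 r.2.1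
        (𝒮.res a.1.2 r.2.1 (r.2.2.1.le.trans q.2.2.1.le) a.2.1)
      have hC : ∀ r, C r ≤ B q ⊓ B q' := fun r => by
        refine le_inf ?_ ?_
        · simp only [C, B]
          rw [← res_res_apply a.1.2 q.2.1 r.2.1 q.2.2.1.le r.2.2.1.le a.2.1]
          exact Po_res_le chart hP q.2.1 r.2.1 r.2.2.1 _
        · simp only [C, B]
          rw [← res_res_apply a.1.2 q'.2.1 r.2.1 q'.2.2.1.le r.2.2.2.le a.2.1]
          exact Po_res_le chart hP q'.2.1 r.2.1 r.2.2.2 _
      refine eq_of_cover hC (fun x hx => ?_) fun r => ?_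
      · obtain ⟨W, hW, b, b', hy⟩ := exists_basic q.2.1 q'.2.1 (Po_le chart q.2.1 _ hx.1) (Po_le chart q'.2.1 _ hx.2)
        refine Opens.mem_iSup.2 ⟨⟨W, hW, b, b'⟩, ?_⟩
        show x ∈ Po chart W hW _
        rw [Po_res chart hP a.1.2 hW (q.2.2.1.trans a.1.2 b)]
        exact ⟨Po_res_le chart hP a.1.2 q.2.1 q.2.2.1 _ hx.1, hy⟩
      · have ht := (𝒮.res a.1.2 r.2.1 (r.2.2.1.le.trans q.2.2.1.le)).map_mem a.2.2
        have e1 := Fits.res chart hP r.2.1 r.2.2.1 ((𝒮.res hV q.2.1 q.2.2.2.le).map_mem hs) (hsf q) ht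
          (res_res_apply a.1.2 q.2.1 r.2.1 q.2.2.1.le r.2.2.1.le a.2.1).symm
          (res_res_apply hV q.2.1 r.2.1 q.2.2.2.le r.2.2.1.le s).symm ((hC r).trans inf_le_left)
        have e2 := Fits.res chart hP r.2.1 r.2.2.2 ((𝒮.res hV q'.2.1 q'.2.2.2.le).map_mem hs) (hsf q') ht
          (res_res_apply a.1.2 q'.2.1 r.2.1 q'.2.2.1.le r.2.2.2.le a.2.1).symm
          (res_res_apply hV q'.2.1 r.2.1 q'.2.2.2.le r.2.2.2.le s).symm ((hC r).trans inf_le_right)
        rw [rX_rX, rX_rX]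
        exact e1.eq chart e2
  exact ⟨z, fun W hW b b' => (hz ⟨W, hW, b, b'⟩ : rX _ z = _) ▸ hsf ⟨W, hW, b, b'⟩⟩

/-- The coordinates of `s`. -/
def ratio {V : S.Opens} (hV : IsAffineOpen V) {s : 𝒮.presheaf.obj (op V)} (hs : s ∈ 𝒮.deg V hV 1) :
    Vec p (Pc chart) V :=
  fun a => (exists_char chart hP a hV hs).choose

theorem char_ratio {V : S.Opens} (hV : IsAffineOpen V) {s : 𝒮.presheaf.obj (op V)} (hs : s ∈ 𝒮.deg V hV 1)
    (a : Idx 𝒮) : Char chart hP a hV s (ratio chart hP hV hs a) :=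
  (exists_char chart hP a hV hs).choose_spec

theorem vres_ratio {V V' : S.Opens} (hV : IsAffineOpen V) (hV' : IsAffineOpen V') (b : Basic V V')
    {s : 𝒮.presheaf.obj (op V)} (hs : s ∈ 𝒮.deg V hV 1) :
    vres b.le (ratio chart hP hV hs) = ratio chart hP hV' ((𝒮.res hV hV' b.le).map_mem hs) :=
  funext fun a => by
    refine Char.eq chart hP (s := 𝒮.res hV hV' b.le s) (fun W hW ba bW => ?_) (char_ratio chart hP hV' _ a)
    have e := char_ratio chart hP hV hs a W hW ba (b.trans hV bW)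
    rw [vres_apply, rX_rX, res_res_apply hV hV' hW b.le bW.le s]
    exact e

theorem base_eq (a : Idx 𝒮) {V : S.Opens} {W : S.Opens} (hW : IsAffineOpen W) (b : Basic a.1.1 W)
    (b' : Basic V W) (r : Γ(S, V)) :
    (μ chart hW ((𝒮.res a.1.2 hW b.le).map_mem a.2.2) one_pos
      (rX (Po_piece_le chart hP a hW b b') (base p (Pc chart) a V r))).val =
      algebraMap _ (Localization.Away (𝒮.res a.1.2 hW b.le a.2.1)) ((𝒮.str.app (op W)).hom (rX b'.le r)) := by
  have e : rX (Po_piece_le chart hP a hW b b') (base p (Pc chart) a V r) =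
      p.appLE W _ (Po_le chart hW _) (rX b'.le r) := by
    simp only [rX, base]
    rw [← CommRingCat.comp_apply, ← CommRingCat.comp_apply, Scheme.Hom.appLE_map, Scheme.Hom.map_appLE]
  rw [e]
  exact (congrArg HomogeneousLocalization.val (μ_base chart hW _ one_pos hP _)).trans (val_fromZero _ _ _)

theorem ratio_lin {V : S.Opens} (hV : IsAffineOpen V) {n : ℕ} (l : Fin n → Γ(S, V))
    (s : Fin n → 𝒮.presheaf.obj (op V)) (hs : ∀ k, s k ∈ 𝒮.deg V hV 1) {x : 𝒮.presheaf.obj (op V)}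
    (hx : x ∈ 𝒮.deg V hV 1) (e : x = ∑ k, (𝒮.str.app (op V)).hom (l k) * s k) :
    ratio chart hP hV hx = lin l fun k => ratio chart hP hV (hs k) :=
  funext fun a => by
    refine Char.eq chart hP (char_ratio chart hP hV hx a) fun W hW b b' => ?_
    show (μ chart hW _ one_pos (rX _ (lin l _ a))).val * _ = _
    simp only [lin, map_sum, map_mul, ← HomogeneousLocalization.algebraMap_apply]
    simp only [HomogeneousLocalization.algebraMap_apply, base_eq chart hP a hW b b']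
    rw [Finset.sum_mul, e, map_sum, map_sum]
    refine Finset.sum_congr rfl fun k _ => ?_
    rw [mul_assoc, show (μ chart hW _ one_pos (rX _ (ratio chart hP hV (hs k) a))).val * _ = _ from
      char_ratio chart hP hV (hs k) a W hW b b', map_mul, map_mul, res_str hV hW]
    rfl

/-- The standard system over an affine open. -/
theorem exists_sys (hgen : 𝒮.IsGenDegOne) (hft : 𝒮.IsFTDeg 1) (U : S.Opens) (hU : IsAffineOpen U) :
    ∃ (T : Sys p (Pc chart) U) (t : Fin T.n → 𝒮.presheaf.obj (op U)) (ht : ∀ j, t j ∈ 𝒮.deg U hU 1),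
      (∀ j, T.c j = ratio chart hP hU (ht j)) ∧
        ∀ x ∈ 𝒮.deg U hU 1, ∃ l : Fin T.n → Γ(S, U), x = ∑ k, (𝒮.str.app (op U)).hom (l k) * t k := by
  classical
  obtain ⟨F, hF, hspan0⟩ := hft U hU
  let N := F.card
  let t : Fin (N + 1) → 𝒮.presheaf.obj (op U) := Fin.cons 0 fun i => (F.equivFin.symm i).1
  have ht : ∀ i, t i ∈ 𝒮.deg U hU 1 := fun i => by
    refine Fin.cases ?_ (fun j => ?_) i
    · exact zero_mem _
    · exact hF (F.equivFin.symm j).2
  have hspan : ∀ x ∈ 𝒮.deg U hU 1, ∃ c : Fin (N + 1) → Γ(S, U),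
      x = ∑ i, (((𝒮.strZero U hU).hom (c i)).1) * t i := fun x hx => by
    obtain ⟨c, hc⟩ := hspan0 x hx
    refine ⟨Fin.cons 0 fun i => c (F.equivFin.symm i).1, ?_⟩
    rw [hc, Fin.sum_univ_succ, ← Finset.sum_coe_sort, ← Equiv.sum_comp F.equivFin.symm]
    simp [t]
    rfl
  let L : Fin (N + 1) → P.Opens := fun j => Po chart U hU (t j)
  choose u hu using fun j k => exists_fits chart hU (ht j) (ht k)
  have hcover : p ⁻¹ᵁ U ≤ ⨆ j, L j := fun x hx => by
    obtain ⟨j, hj⟩ : ∃ j, (chart U hU).hom ⟨x, hx⟩ ∈ Proj.basicOpen (𝒮.deg U hU) (t j) := by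
      by_contra hne
      simp only [not_exists, ProjectiveSpectrum.mem_basicOpen, not_not, Proj.basicOpen, SetLike.mem_coe] at hne
      refine ((chart U hU).hom ⟨x, hx⟩).not_irrelevant_le ?_
      rw [HomogeneousIdeal.irrelevant_le]
      intro d hd y hy
      obtain ⟨q, hq, rfl⟩ := HProj.AffineBase.exists_homogeneous_preimage (𝒮.deg U hU) (𝒮.strZero U hU).hom t ht
        (hgen U hU) hspan hd hy
      have hmem : q ∈ Ideal.span ((MvPolynomial.X : Fin (N + 1) → MvPolynomial (Fin (N + 1)) Γ(S, U)) '' Set.univ) := by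
        rw [MvPolynomial.mem_ideal_span_X_image]
        intro m hm
        by_contra hz
        simp only [Set.mem_univ, true_and, not_exists, ne_eq, not_not] at hz
        have hm0 : m = 0 := Finsupp.ext hz
        have h := hq (MvPolynomial.mem_support_iff.1 hm)
        rw [hm0, map_zero] at h
        omega
      have hmap := Ideal.mem_map_of_mem (HProj.AffineBase.evalT (𝒮.deg U hU) (𝒮.strZero U hU).hom t) hmem
      rw [Ideal.map_span] at hmap
      refine (Ideal.span_le.2 ?_) hmap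
      rintro _ ⟨_, ⟨j, -, rfl⟩, rfl⟩
      rw [HProj.AffineBase.evalT, MvPolynomial.eval₂Hom_X']
      exact not_not.1 (fun hc => hne j hc)
    exact Opens.mem_iSup.2 ⟨j, (mem_Po_iff chart hU _ hx).2 hj⟩
  have hLinf : ∀ j a, L j ⊓ Pc chart a = P.basicOpen (ratio chart hP hU (ht j) a) := by
    intro j a
    apply le_antisymm
    · rintro x ⟨hxL, hxa⟩
      obtain ⟨W, hW, b, b', hy⟩ := exists_basic a.1.2 hU (Po_le chart a.1.2 _ hxa) (Po_le chart hU _ hxL)
      have e : P.basicOpen (rX (Po_piece_le chart hP a hW b b') (ratio chart hP hU (ht j) a)) =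
          Po chart W hW (𝒮.res a.1.2 hW b.le a.2.1) ⊓ Po chart W hW (𝒮.res hU hW b'.le (t j)) :=
        basicOpen_fits chart hW ((𝒮.res a.1.2 hW b.le).map_mem a.2.2)
          ((𝒮.res hU hW b'.le).map_mem (ht j)) (char_ratio chart hP hU (ht j) a W hW b b')
      rw [basicOpen_rX, Po_res chart hP a.1.2 hW b, Po_res chart hP hU hW b'] at e
      exact (e.ge ⟨⟨hxa, hy⟩, hxL, hy⟩).2
    · intro x hx
      have hxp := P.basicOpen_le _ hx
      obtain ⟨W, hW, b, b', hy⟩ := exists_basic a.1.2 hU (Po_le chart a.1.2 _ hxp.1) hxp.2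
      have e : P.basicOpen (rX (Po_piece_le chart hP a hW b b') (ratio chart hP hU (ht j) a)) =
          Po chart W hW (𝒮.res a.1.2 hW b.le a.2.1) ⊓ Po chart W hW (𝒮.res hU hW b'.le (t j)) :=
        basicOpen_fits chart hW ((𝒮.res a.1.2 hW b.le).map_mem a.2.2)
          ((𝒮.res hU hW b'.le).map_mem (ht j)) (char_ratio chart hP hU (ht j) a W hW b b')
      rw [basicOpen_rX, Po_res chart hP a.1.2 hW b, Po_res chart hP hU hW b'] at e
      exact ⟨(e.le ⟨⟨hxp.1, hy⟩, hx⟩).2.1, hxp.1⟩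
  have hrel : ∀ j k a, rX (le_inf inf_le_right (inf_le_left.trans (Po_le chart hU (t j))))
      (ratio chart hP hU (ht k) a) =
      rX (inf_le_left : L j ⊓ Pc chart a ≤ L j) (u j k) *
        rX (le_inf inf_le_right (inf_le_left.trans (Po_le chart hU (t j)))) (ratio chart hP hU (ht j) a) := by
    intro j k a
    let J := {W : S.Opens // IsAffineOpen W ∧ Basic a.1.1 W ∧ Basic U W}
    let tA : ∀ q : J, 𝒮.presheaf.obj (op q.1) := fun q => 𝒮.res a.1.2 q.2.1 q.2.2.1.le a.2.1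
    let tJ : ∀ (q : J), Fin (N + 1) → 𝒮.presheaf.obj (op q.1) := fun q i => 𝒮.res hU q.2.1 q.2.2.2.le (t i)
    have htA : ∀ q : J, tA q ∈ 𝒮.deg q.1 q.2.1 1 := fun q => (𝒮.res a.1.2 q.2.1 q.2.2.1.le).map_mem a.2.2
    have htJ : ∀ (q : J) i, tJ q i ∈ 𝒮.deg q.1 q.2.1 1 := fun q i => (𝒮.res hU q.2.1 q.2.2.2.le).map_mem (ht i)
    let B : J → P.Opens := fun q => Po chart q.1 q.2.1 (tA q * tJ q j)
    have hBA : ∀ q, B q ≤ Po chart q.1 q.2.1 (tA q) := fun q => by
      simp only [B]; rw [Po_mul]; exact inf_le_left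
    have hBJ : ∀ q, B q ≤ Po chart q.1 q.2.1 (tJ q j) := fun q => by
      simp only [B]; rw [Po_mul]; exact inf_le_right
    have hB : ∀ q, B q ≤ L j ⊓ Pc chart a := fun q =>
      le_inf ((hBJ q).trans (Po_res_le chart hP hU q.2.1 q.2.2.2 _))
        ((hBA q).trans (Po_res_le chart hP a.1.2 q.2.1 q.2.2.1 _))
    refine eq_of_cover hB (fun x hx => ?_) fun q => ?_
    · obtain ⟨W, hW, b, b', hy⟩ := exists_basic a.1.2 hU (Po_le chart a.1.2 _ hx.2) (Po_le chart hU _ hx.1)
      refine Opens.mem_iSup.2 ⟨⟨W, hW, b, b'⟩, ?_⟩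
      simp only [B, tA, tJ]
      rw [Po_mul, Po_res chart hP a.1.2 hW b, Po_res chart hP hU hW b']
      exact ⟨⟨hx.2, hy⟩, hx.1, hy⟩
    · have hz : ∀ i, rX ((hB q).trans (le_inf inf_le_right (inf_le_left.trans (Po_le chart hU (t j)))))
          (ratio chart hP hU (ht i) a) = rX (hBA q) (rX (Po_piece_le chart hP a q.2.1 q.2.2.1 q.2.2.2)
            (ratio chart hP hU (ht i) a)) := fun i => (rX_rX _ _ _).symm
      have hw : rX ((hB q).trans inf_le_left) (u j k) =
          rX (hBJ q) (rX (Po_res_le chart hP hU q.2.1 q.2.2.2 (t j)) (u j k)) := (rX_rX _ _ _).symm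
      have hx2 : tA q * tJ q j ∈ 𝒮.deg q.1 q.2.1 (1 + 1) := SetLike.mul_mem_graded (htA q) (htJ q j)
      have hcomm : tA q * tJ q j = tJ q j * tA q := mul_comm _ _
      rw [map_mul, rX_rX, rX_rX, rX_rX, hz, hz, hw]
      apply (μ_bijective chart q.2.1 hx2 (by omega)).1
      have fk := eq_frac _ (htA q) (htJ q k) (char_ratio chart hP hU (ht k) a q.1 q.2.1 q.2.2.1 q.2.2.2)
      have fj := eq_frac _ (htA q) (htJ q j) (char_ratio chart hP hU (ht j) a q.1 q.2.1 q.2.2.1 q.2.2.2)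
      have fu := eq_frac _ (htJ q j) (htJ q k)
        (Fits.res chart hP q.2.1 q.2.2.2 (ht k) (hu j k) (htJ q j) rfl rfl (Po_res_le chart hP hU q.2.1 q.2.2.2 (t j)))
      rw [map_mul,
        μ_natural chart q.2.1 (htA q) one_pos q.2.1 hx2 (by omega) _
          (κ_awayMap chart q.2.1 (htA q) one_pos (htJ q j) rfl) (hBA q),
        μ_natural chart q.2.1 (htA q) one_pos q.2.1 hx2 (by omega) _
          (κ_awayMap chart q.2.1 (htA q) one_pos (htJ q j) rfl) (hBA q),
        μ_natural chart q.2.1 (htJ q j) one_pos q.2.1 hx2 (by omega) _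
          (κ_awayMap chart q.2.1 (htJ q j) one_pos (htA q) hcomm) (hBJ q),
        fk, fj, fu]
      apply HomogeneousLocalization.val_injective
      rw [HomogeneousLocalization.val_mul]
      have hA : IsUnit (algebraMap _ (Localization.Away (tA q * tJ q j)) (tA q)) :=
        isUnit_of_dvd_unit (map_dvd _ (dvd_mul_right _ _)) (isUnit_loc _)
      refine hA.mul_left_injective ?_
      beta_reduce
      rw [mul_assoc, awayMap_frac_mul _ (htA q) (htJ q j) rfl, awayMap_frac_mul _ (htA q) (htJ q j) rfl,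
        awayMap_frac_mul _ (htJ q j) (htA q) hcomm]
  refine ⟨{
    n := N + 1
    c := fun j => ratio chart hP hU (ht j)
    L := L
    L_le := fun j => Po_le chart hU _
    affine := fun j => isAffineOpen_Po chart hU (ht j) one_pos
    cover := hcover
    L_inf := hLinf
    u := u
    rel := hrel
    gen := fun j => ?_ }, t, ht, fun j => rfl, hspan⟩
  -- generation
  let R0 := Subring.closure (Set.range (p.appLE U (L j) (Po_le chart hU _)) ∪ Set.range (u j))
  show R0 = ⊤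
  refine eq_top_iff.2 fun z _ => ?_
  obtain ⟨d, b, hb, hzb⟩ := Away.mk_surjective (𝒮.deg U hU) (ht j) (μ chart hU (ht j) one_pos z)
  have hbd : b * t j ∈ 𝒮.deg U hU (d + 1) :=
    SetLike.mul_mem_graded (show b ∈ 𝒮.deg U hU d by simpa using hb) (ht j)
  obtain ⟨q, hq, hqe⟩ := HProj.AffineBase.exists_homogeneous_preimage (𝒮.deg U hU) (𝒮.strZero U hU).hom t ht
    (hgen U hU) hspan d.succ_pos hbd
  let E := MvPolynomial.eval₂Hom (p.appLE U (L j) (Po_le chart hU _)).hom (u j) q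
  have hER : E ∈ R0 := by
    clear hq hqe
    induction q using MvPolynomial.induction_on with
    | C r =>
      have h : p.appLE U (L j) (Po_le chart hU _) r ∈ R0 := Subring.subset_closure (Or.inl ⟨r, rfl⟩)
      simpa [E] using h
    | add q q' h h' => simp only [E, map_add] at h h' ⊢; exact add_mem h h'
    | mul_X q i h =>
      simp only [E, map_mul, MvPolynomial.eval₂Hom_X'] at h ⊢
      exact mul_mem h (Subring.subset_closure (Or.inr ⟨i, rfl⟩))
  suffices hEz : E = z by rwa [← hEz]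
  apply (μ_bijective chart hU (ht j) one_pos).1
  apply HomogeneousLocalization.val_injective
  let ι := algebraMap (𝒮.presheaf.obj (op U)) (Localization.Away (t j))
  refine ((isUnit_loc (t j)).pow (d + 1)).mul_left_injective ?_
  beta_reduce
  have h1 : (μ chart hU (ht j) one_pos z).val * ι (t j) ^ (d + 1) = ι (b * t j) := by
    rw [← hzb, pow_succ, ← mul_assoc, val_mk_mul, map_mul]
  rw [h1, ← hqe]
  let v := (algebraMap (Away (𝒮.deg U hU) (t j)) (Localization.Away (t j))).comp (μ chart hU (ht j) one_pos)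
  have h2 : v.comp (MvPolynomial.eval₂Hom (p.appLE U (L j) (Po_le chart hU _)).hom (u j)) =
      MvPolynomial.eval₂Hom (ι.comp ((algebraMap (𝒮.deg U hU 0) _).comp (𝒮.strZero U hU).hom))
        (fun k => v (u j k)) := by
    apply MvPolynomial.ringHom_ext
    · intro r
      simp only [RingHom.comp_apply, MvPolynomial.eval₂Hom_C, v]
      exact (congrArg _ (μ_base chart hU (ht j) one_pos hP r)).trans (val_fromZero _ _ _)
    · intro k; simp
  have h3 : ι.comp (HProj.AffineBase.evalT (𝒮.deg U hU) (𝒮.strZero U hU).hom t) =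
      MvPolynomial.eval₂Hom (ι.comp ((algebraMap (𝒮.deg U hU 0) _).comp (𝒮.strZero U hU).hom))
        (fun k => ι (t j) * v (u j k)) := by
    apply MvPolynomial.ringHom_ext
    · intro r; simp [HProj.AffineBase.evalT]
    · intro k
      simp only [RingHom.comp_apply, HProj.AffineBase.evalT, MvPolynomial.eval₂Hom_X']
      exact ((mul_comm _ _).trans (hu j k)).symm
  have e2 := DFunLike.congr_fun h2 q
  have e3 := DFunLike.congr_fun h3 q
  rw [ProjSpace.Charts.eval₂Hom_mul_of_isHomogeneous _ _ _ hq] at e3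
  refine ((mul_comm _ _).trans (congrArg (ι (t j) ^ (d + 1) * ·) e2)).trans e3.symm

include hP in
theorem nonempty_pdata (hgen : 𝒮.IsGenDegOne) (hft : 𝒮.IsFTDeg 1) : Nonempty (PData p) := by
  classical
  choose T t ht hc hspan using fun U : S.affineOpens => exists_sys chart hP hgen hft U.1 U.2
  refine ⟨{
    I := Idx 𝒮
    P := Pc chart
    P_cover := fun x => ?_
    J := S.affineOpens
    U := fun β => β.1
    affine := fun β => β.2
    cover := fun y => ?_
    sys := T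
    compat := fun β γ j y hy hy' => ?_ }⟩
  · obtain ⟨V, hV, hxV, -⟩ := exists_isAffineOpen_mem_and_subset (X := S) (x := p x) (U := ⊤) (Opens.mem_top _)
    obtain ⟨j, hj⟩ := Opens.mem_iSup.1 ((T ⟨V, hV⟩).cover (x := x) hxV)
    obtain ⟨a, ha⟩ : ∃ a : Idx 𝒮, x ∈ Pc chart a := by
      by_contra hne
      have hxj : x ∈ (T ⟨V, hV⟩).L j := hj
      simp only [not_exists] at hne
      obtain ⟨U', hU', hxU', -⟩ := exists_isAffineOpen_mem_and_subset (X := S) (x := p x) (U := ⊤) (Opens.mem_top _)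
      obtain ⟨F, hF, hs⟩ := hft U' hU'
      refine ((chart U' hU').hom ⟨x, hxU'⟩).not_irrelevant_le ?_
      rw [HomogeneousIdeal.irrelevant_le]
      intro d hd z hz
      have h1 : ∀ w ∈ 𝒮.deg U' hU' 1, w ∈ ((chart U' hU').hom ⟨x, hxU'⟩).asHomogeneousIdeal.toIdeal := fun w hw =>
        not_not.1 fun hc => hne ⟨⟨U', hU'⟩, w, hw⟩ ((mem_Po_iff chart hU' w hxU').2 hc)
      let N := F.card
      let tt : Fin (N + 1) → 𝒮.presheaf.obj (op U') := Fin.cons 0 fun i => (F.equivFin.symm i).1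
      have htt : ∀ i, tt i ∈ 𝒮.deg U' hU' 1 := fun i => by
        refine Fin.cases ?_ (fun j => ?_) i
        · exact zero_mem _
        · exact hF (F.equivFin.symm j).2
      obtain ⟨q, hq, rfl⟩ := HProj.AffineBase.exists_homogeneous_preimage (𝒮.deg U' hU') (𝒮.strZero U' hU').hom tt htt
        (hgen U' hU') (fun w hw => by
          obtain ⟨c, hc⟩ := hs w hw
          refine ⟨Fin.cons 0 fun i => c (F.equivFin.symm i).1, ?_⟩
          rw [hc, Fin.sum_univ_succ, ← Finset.sum_coe_sort, ← Equiv.sum_comp F.equivFin.symm]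
          simp [tt]
          rfl) hd hz
      have hmem : q ∈ Ideal.span ((MvPolynomial.X : Fin (N + 1) → MvPolynomial (Fin (N + 1)) Γ(S, U')) '' Set.univ) := by
        rw [MvPolynomial.mem_ideal_span_X_image]
        intro m hm
        by_contra hz'
        simp only [Set.mem_univ, true_and, not_exists, ne_eq, not_not] at hz'
        have hm0 : m = 0 := Finsupp.ext hz'
        have h := hq (MvPolynomial.mem_support_iff.1 hm)
        rw [hm0, map_zero] at h
        omega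
      have hmap := Ideal.mem_map_of_mem (HProj.AffineBase.evalT (𝒮.deg U' hU') (𝒮.strZero U' hU').hom tt) hmem
      rw [Ideal.map_span] at hmap
      refine (Ideal.span_le.2 ?_) hmap
      rintro _ ⟨_, ⟨i, -, rfl⟩, rfl⟩
      rw [HProj.AffineBase.evalT, MvPolynomial.eval₂Hom_X']
      exact h1 _ (htt i)
    exact ⟨a, ha⟩
  · obtain ⟨V, hV, hyV, -⟩ := exists_isAffineOpen_mem_and_subset (X := S) (x := y) (U := ⊤) (Opens.mem_top y)
    exact ⟨⟨V, hV⟩, hyV⟩
  · obtain ⟨W, hW, b, b', hyW⟩ := exists_basic β.2 γ.2 hy hy'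
    -- express a generator over `W`
    obtain ⟨g, rfl⟩ := b
    let θ := 𝒮.res β.2 hW (S.basicOpen_le g)
    let _ := θ.toRingHom.toAlgebra
    have hloc : IsLocalization.Away ((𝒮.str.app (op β.1)).hom g) (𝒮.presheaf.obj (op (S.basicOpen g))) :=
      𝒮.isQC β.1 β.2 g
    let z := 𝒮.res γ.2 hW b'.le (t γ j)
    have hz : z ∈ 𝒮.deg _ hW 1 := (𝒮.res γ.2 hW b'.le).map_mem (ht γ j)
    obtain ⟨m, w, hw⟩ := IsLocalization.Away.surj ((𝒮.str.app (op β.1)).hom g) z
    change z * θ ((𝒮.str.app (op β.1)).hom g) ^ m = θ w at hw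
    have hg0 : θ ((𝒮.str.app (op β.1)).hom g) ^ m ∈ 𝒮.deg _ hW 0 := by
      simpa using SetLike.pow_mem_graded m (θ.map_mem (𝒮.str_mem _ β.2 g))
    have hzm : z * θ ((𝒮.str.app (op β.1)).hom g) ^ m ∈ 𝒮.deg _ hW 1 := by
      simpa using SetLike.mul_mem_graded hz hg0
    let w1 : 𝒮.presheaf.obj (op β.1) := DirectSum.decompose (𝒮.deg β.1 β.2) w 1
    have hw1 : θ w1 = z * θ ((𝒮.str.app (op β.1)).hom g) ^ m := by
      rw [GradedRingHom.map_directSumDecompose, ← hw, DirectSum.decompose_of_mem_same _ hzm]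
    obtain ⟨l, hl⟩ := hspan β w1 (SetLike.coe_mem _)
    obtain ⟨v, hv⟩ := (isUnit_rX (S.basicOpen_le g) (le_refl (S.basicOpen g))).exists_right_inv
    refine ⟨S.basicOpen g, S.basicOpen_le g, b'.le, hyW, fun k => v ^ m * rX (S.basicOpen_le g) (l k), ?_⟩
    have hz' : z = ∑ k, (𝒮.str.app (op (S.basicOpen g))).hom (v ^ m * rX (S.basicOpen_le g) (l k)) * θ (t β k) := by
      have h1 : θ w1 = ∑ k, (𝒮.str.app (op (S.basicOpen g))).hom (rX (S.basicOpen_le g) (l k)) * θ (t β k) := by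
        rw [hl, map_sum]
        exact Finset.sum_congr rfl fun k _ => by rw [map_mul, res_str β.2 hW]
      simp only [map_mul, mul_assoc, ← Finset.mul_sum, ← h1, hw1, map_pow]
      rw [show θ ((𝒮.str.app (op β.1)).hom g) = _ from res_str β.2 hW _ g, mul_left_comm, ← mul_pow, ← map_mul,
        mul_comm v, hv, map_one, one_pow, mul_one]
    rw [hc γ j, vres_ratio chart hP γ.2 hW b', ratio_lin chart hP hW _ _ (fun k => θ.map_mem (ht β k))
      ((𝒮.res γ.2 hW b'.le).map_mem (ht γ j)) hz']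
    exact congrArg (lin _) (funext fun k => by rw [hc β k, vres_ratio chart hP β.2 hW ⟨g, rfl⟩])

end Groth.Agent.Lib.PProj.FromProj
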