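import Groth.Agent.Lib.PProj.Chart
import Groth.Agent.Lib.PProj.Pull
import Groth.Agent.Lib.PProj.FromProj

/-!
# Permanence of projectivity over an arbitrary base
-/

noncomputable section

universe u

open CategoryTheory CategoryTheory.Limits AlgebraicGeometry

namespace Groth.Agent.Lib.PProj.Main

variable {X Y Z S S' : Scheme.{u}}

theorem nonempty_pdata {f : X ⟶ S} (hf : RelProj.IsProjective f) : Nonempty (PData f) := by
  obtain ⟨𝒮, P, p, chart, e, hgen, hft, hP, he⟩ := hf
  obtain ⟨D⟩ := FromProj.nonempty_pdata chart hP hgen hft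
  refine PData.pull f e.hom (𝟙 S) (by rw [Category.comp_id, he]) D ?_
  haveI : IsIso (pullback.fst p (𝟙 S)) := inferInstance
  have : IsIso (pullback.lift e.hom f (by rw [Category.comp_id, he]) ≫ pullback.fst p (𝟙 S)) := by
    rw [pullback.lift_fst]; first | done | infer_instance
  haveI := IsIso.of_isIso_comp_right (pullback.lift e.hom f (show e.hom ≫ p = f ≫ 𝟙 S by simp [he])) (pullback.fst p (𝟙 S))
  infer_instance

/-- The general pullback principle: `Z ⟶ X ×_S S'` a closed immersion. -/
theorem isProjective_of_closedImmersion_pullback {f : X ⟶ S} (hf : RelProj.IsProjective f) (f' : Z ⟶ S')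
    (p : Z ⟶ X) (h : S' ⟶ S) (hcomm : p ≫ f = f' ≫ h)
    (hk : IsClosedImmersion (pullback.lift p f' hcomm)) : RelProj.IsProjective f' := by
  obtain ⟨D⟩ := nonempty_pdata hf
  obtain ⟨D'⟩ := PData.pull f' p h hcomm D hk
  exact D'.isProjective

theorem isProjective_pullback_snd {f : X ⟶ S} (hf : RelProj.IsProjective f) (g : S' ⟶ S) :
    RelProj.IsProjective (pullback.snd f g) := by
  refine isProjective_of_closedImmersion_pullback hf _ (pullback.fst f g) g pullback.condition ?_
  have : pullback.lift (pullback.fst f g) (pullback.snd f g) pullback.condition = 𝟙 _ :=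
    pullback.hom_ext (by simp) (by simp)
  rw [this]
  infer_instance

theorem isProjective_closedImmersion_comp {f : X ⟶ S} (hf : RelProj.IsProjective f) (i : Z ⟶ X)
    [IsClosedImmersion i] : RelProj.IsProjective (i ≫ f) := by
  have hc : i ≫ f = (i ≫ f) ≫ 𝟙 S := (Category.comp_id _).symm
  refine isProjective_of_closedImmersion_pullback hf _ i (𝟙 S) hc ?_
  haveI : IsClosedImmersion (pullback.lift i (i ≫ f) hc ≫ pullback.fst f (𝟙 S)) := by
    rw [pullback.lift_fst]; first | done | infer_instance
  exact IsClosedImmersion.of_comp _ (pullback.fst f (𝟙 S))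

theorem isProjective_of_comp {f : X ⟶ Y} {g : Y ⟶ Z} [IsSeparated g] (h : RelProj.IsProjective (f ≫ g)) :
    RelProj.IsProjective f := by
  refine isProjective_of_closedImmersion_pullback h f (𝟙 X) g (Category.id_comp _) ?_
  haveI : IsSeparated (pullback.fst (f ≫ g) g) := MorphismProperty.pullback_fst _ _ ‹_›
  haveI : IsClosedImmersion (pullback.lift (𝟙 X) f (Category.id_comp _) ≫ pullback.fst (f ≫ g) g) := by
    rw [pullback.lift_fst]; first | done | infer_instance
  exact IsClosedImmersion.of_comp _ (pullback.fst (f ≫ g) g)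

theorem isProjective_of_commSq {f : X ⟶ S} (hf : RelProj.IsProjective f) {X₀ S₀ : Scheme.{u}} (j : X₀ ⟶ X)
    [IsClosedImmersion j] (k : S₀ ⟶ S) [IsSeparated k] (f₀ : X₀ ⟶ S₀) (hcomm : j ≫ f = f₀ ≫ k) :
    RelProj.IsProjective f₀ := by
  refine isProjective_of_closedImmersion_pullback hf f₀ j k hcomm ?_
  haveI : IsSeparated (pullback.fst f k) := MorphismProperty.pullback_fst _ _ ‹_›
  haveI : IsClosedImmersion (pullback.lift j f₀ hcomm ≫ pullback.fst f k) := by
    rw [pullback.lift_fst]; first | done | infer_instance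
  exact IsClosedImmersion.of_comp _ (pullback.fst f k)

end Groth.Agent.Lib.PProj.Main
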