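import Groth.Agent.Lib.PProj.AffineSys
import Groth.Agent.Lib.PProj.Span
import Groth.Agent.Lib.PProj.Main
import Groth.Agent.Lib.ProjMor.Conv
import Groth.Agent.Lib.Ample.RelAmple

/-!
# Proper quasi-projective morphisms over quasi-compact quasi-separated bases are projective
-/

noncomputable section

universe u

open CategoryTheory CategoryTheory.Limits AlgebraicGeometry TopologicalSpace Opposite

namespace Groth.Agent.Lib.PProj

open TensorMod TensorMod.Dual TensorMod.Gen

variable {X S : Scheme.{u}} (f : X ⟶ S) [IsProper f]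

theorem nonempty_pdata_of_veryAmple [QuasiSeparatedSpace S] (M : X.Modules) (hM : PicF.IsInvertible M)
    {κ : Type u} [Finite κ] (O : κ → S.Opens) (hO : ∀ i, IsAffineOpen (O i)) (hcov : ∀ y, ∃ i, y ∈ O i)
    (hva : ∀ i, _root_.RelAmple.IsRelVeryAmplePn (f ∣_ O i) (M.restrict (f ⁻¹ᵁ O i).ι)) : Nonempty (PData f) := by
  classical
  haveI : M.IsQuasicoherent := QCohInv.isQCoh_of_isInvertible hM
  choose P e hxP he using Gen.isInvertible_iff.1 hM
  have hPc : ∀ x, ∃ a, x ∈ P a := fun x => ⟨x, hxP x⟩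
  choose T m₀ hm₀ using fun i => exists_sys_of_veryAmple f M he hPc (hO i) (hva i)
  obtain ⟨m, G, ι, hι, hG⟩ := Span.exists_compatible (f := f) (M := M) O hO (fun i => (T i).n) m₀
  have hext : ∀ i, ∃ T' : Sys f P (O i), ∃ e : T'.n = m i, ∀ j, T'.c j = cv f M he (G i (Fin.cast e j)) :=
    fun i => (T i).exists_extend hPc (fun j => cv f M he (G i j)) (ι i) (fun j => by
      show cv f M he (G i (ι i j)) = _
      rw [hι, hm₀])
      fun j k => prop2_cv f M he _ _
  choose T' hn hT' using hext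
  refine ⟨{
    I := X
    P := P
    P_cover := hPc
    J := κ
    U := O
    affine := hO
    cover := hcov
    sys := T'
    compat := fun β γ j y hy hy' => ?_ }⟩
  obtain ⟨W, hW, hyW, l, hl⟩ := hG γ β (Fin.cast (hn γ) j) y ⟨hy, hy'⟩
  refine ⟨W, hW.trans inf_le_left, hW.trans inf_le_right, hyW, fun k => l (Fin.cast (hn β) k), ?_⟩
  have h1 := congrArg (cv f M he) hl
  rw [Span.rM_rM, cv_sum] at h1
  simp only [hT']
  refine (vres_cv f M he _ _).symm.trans (h1.trans ?_)
  funext a
  simp only [lin]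
  refine (Equiv.sum_comp (finCongr (hn β)) _).symm.trans (Finset.sum_congr rfl fun k _ => ?_)
  exact congrArg (fun v : Vec f P W => _ * v a) (vres_cv f M he (hW.trans inf_le_left) _)

/-- EGA II 5.5.3: proper and quasi-projective over a quasi-compact quasi-separated base gives projective. -/
theorem isProjective_of_isProper [CompactSpace S] [QuasiSeparatedSpace S]
    (hq : RelProj.IsQuasiProjective f) : RelProj.IsProjective f := by
  classical
  obtain ⟨hlft, hqc, L, hL⟩ := hq
  haveI := hlft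
  haveI := hqc
  obtain ⟨t, ht⟩ := isCompact_univ.elim_finite_subcover (fun V : S.affineOpens => (V.1 : Set S))
    (fun V => V.1.isOpen) fun y _ => by
      obtain ⟨V, hV, hyV, -⟩ := exists_isAffineOpen_mem_and_subset (X := S) (x := y) (U := ⊤) trivial
      exact Set.mem_iUnion.2 ⟨⟨V, hV⟩, hyV⟩
  have hLi := Ample.RelAmple.isInvertible_of_isRelAmple hL
  have hev : ∀ V : t, ∃ n₀ : ℕ, ∀ n, n₀ ≤ n →
      _root_.RelAmple.IsRelVeryAmplePn (f ∣_ V.1.1) (CohB1.tensorPow (L.restrict (f ⁻¹ᵁ V.1.1).ι) n) := fun V => by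
    haveI : LocallyOfFiniteType (f ∣_ V.1.1) :=
      MorphismProperty.of_isPullback (P := @LocallyOfFiniteType) (isPullback_morphismRestrict f _).flip hlft
    exact ProjMor.Conv.eventually_veryAmple_pow _ (hL.2 V.1)
  choose n₀ hn₀ using hev
  let n := Finset.univ.sup n₀
  obtain ⟨D⟩ := nonempty_pdata_of_veryAmple f (CohB1.tensorPow L n) (Invertible.isInvertible_tensorPow hLi n)
    (fun V : t => V.1.1) (fun V => V.1.2)
    (fun y => by
      obtain ⟨V, hV, hy⟩ := Set.mem_iUnion₂.1 (ht (Set.mem_univ y))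
      exact ⟨⟨V, hV⟩, hy⟩)
    fun V => ProjMor.Conv.isRelVeryAmplePn_of_iso (Ample.Pow.restrictPow _ L n).symm
      (hn₀ V n (Finset.le_sup (f := n₀) (Finset.mem_univ V)))
  exact D.isProjective

end Groth.Agent.Lib.PProj
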