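import Groth.Agent.Lib.PProj.Sys
import Groth.Prelude.Def_RelProj
import Mathlib.Topology.Sheaves.SheafCondition.UniqueGluing

/-!
# The sheaf of rings of coordinate data

Over an open `W`, the elements of the ambient ring that are locally polynomial evaluations in the coordinates.
-/

noncomputable section

universe u

open CategoryTheory AlgebraicGeometry TopologicalSpace MvPolynomial Opposite

namespace Groth.Agent.Lib.PProj

variable {X S : Scheme.{u}} {f : X ⟶ S}

namespace PData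

variable (D : PData f)

/-- An evaluation in the coordinates of `β` over a basic open of `U β`. -/
def IsRep {W : S.Opens} (s : Amb f D.P W) (β : D.J) (g : Γ(S, D.U β)) : Prop :=
  ∃ (h : S.basicOpen g ≤ W) (p : MvPolynomial (Fin (D.sys β).n) Γ(S, S.basicOpen g)),
    ev (S.basicOpen g) (fun k => vres (S.basicOpen_le g) ((D.sys β).c k)) p = ares h s

theorem IsRep.res {W : S.Opens} {s : Amb f D.P W} {β : D.J} {g g' : Γ(S, D.U β)} (hs : D.IsRep s β g)
    (h : S.basicOpen g' ≤ S.basicOpen g) : D.IsRep s β g' := by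
  obtain ⟨hle, p, hp⟩ := hs
  refine ⟨h.trans hle, polyRes h p, ?_⟩
  have e := congrArg (ares h) hp
  rw [ev_res, ares_ares] at e
  simp only [vres_vres] at e
  exact e

/-- Locally an evaluation. -/
def IsLocal (W : S.Opens) (s : Amb f D.P W) : Prop :=
  ∀ x ∈ W, ∃ (β : D.J) (g : Γ(S, D.U β)), x ∈ S.basicOpen g ∧ D.IsRep s β g

theorem exists_trans {β γ : D.J} {x : S} (hβ : x ∈ D.U β) (hγ : x ∈ D.U γ) :
    ∃ (V : S.Opens) (h1 : V ≤ D.U β) (h2 : V ≤ D.U γ), x ∈ V ∧
      ∃ l : Fin (D.sys γ).n → Fin (D.sys β).n → Γ(S, V),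
        ∀ j, vres h2 ((D.sys γ).c j) = lin (l j) fun k => vres h1 ((D.sys β).c k) := by
  classical
  choose V hVβ hVγ hxV l hl using fun j => D.compat β γ j x hβ hγ
  let W : S.Opens := (D.U β ⊓ D.U γ) ⊓ Finset.univ.inf V
  have hW : ∀ j, W ≤ V j := fun j => inf_le_right.trans (Finset.inf_le (Finset.mem_univ j))
  refine ⟨W, inf_le_left.trans inf_le_left, inf_le_left.trans inf_le_right,
    ⟨⟨hβ, hγ⟩, by rw [SetLike.mem_coe, ← SetLike.mem_coe, Opens.coe_finset_inf]; simpa using fun j => hxV j⟩,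
    fun j k => rX (hW j) (l j k), fun j => ?_⟩
  have e := congrArg (vres (hW j)) (hl j)
  rw [vres_lin, vres_vres] at e
  simp only [vres_vres] at e
  exact e

theorem exists_rep {W : S.Opens} {s : Amb f D.P W} (hs : D.IsLocal W s) {x : S} (hx : x ∈ W) (β : D.J)
    (hβ : x ∈ D.U β) : ∃ g : Γ(S, D.U β), x ∈ S.basicOpen g ∧ D.IsRep s β g := by
  obtain ⟨γ, g', hxg', hle, p, hp⟩ := hs x hx
  obtain ⟨V, h1, h2, hxV, l, hl⟩ := D.exists_trans hβ (S.basicOpen_le g' hxg')
  obtain ⟨g, hg, hxg⟩ := (D.affine β).exists_basicOpen_le (V := V ⊓ S.basicOpen g') ⟨x, hxV, hxg'⟩ hβ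
  have hgV : S.basicOpen g ≤ V := hg.trans inf_le_left
  have hgg' : S.basicOpen g ≤ S.basicOpen g' := hg.trans inf_le_right
  refine ⟨g, hxg, hgg'.trans hle, subst (fun j k => rX hgV (l j k)) (polyRes hgg' p), ?_⟩
  have e := congrArg (ares hgg') hp
  rw [ev_res, ares_ares] at e
  simp only [vres_vres] at e
  rw [← e, ← ev_lin]
  refine congrArg (fun v => ev (S.basicOpen g) v (polyRes hgg' p)) (funext fun j => ?_)
  have e2 := congrArg (vres hgV) (hl j)
  rw [vres_lin, vres_vres] at e2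
  simp only [vres_vres] at e2
  exact e2.symm

theorem exists_common {W : S.Opens} {s t : Amb f D.P W} (hs : D.IsLocal W s) (ht : D.IsLocal W t) {x : S}
    (hx : x ∈ W) : ∃ (β : D.J) (g : Γ(S, D.U β)), x ∈ S.basicOpen g ∧ D.IsRep s β g ∧ D.IsRep t β g := by
  obtain ⟨β, g₁, hx₁, h₁⟩ := hs x hx
  obtain ⟨g₂, hx₂, h₂⟩ := D.exists_rep ht hx β (S.basicOpen_le g₁ hx₁)
  refine ⟨β, g₁ * g₂, ?_, h₁.res D ?_, h₂.res D ?_⟩
  · rw [Scheme.basicOpen_mul]; exact ⟨hx₁, hx₂⟩
  · rw [Scheme.basicOpen_mul]; exact inf_le_left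
  · rw [Scheme.basicOpen_mul]; exact inf_le_right

theorem isLocal_ev {W : S.Opens} {β : D.J} (h : W ≤ D.U β) (p : MvPolynomial (Fin (D.sys β).n) Γ(S, W)) :
    D.IsLocal W (ev W (fun k => vres h ((D.sys β).c k)) p) := by
  intro x hx
  obtain ⟨g, hg, hxg⟩ := (D.affine β).exists_basicOpen_le (V := W) ⟨x, hx⟩ (h hx)
  refine ⟨β, g, hxg, hg, polyRes hg p, ?_⟩
  rw [ev_res]
  simp only [vres_vres]

theorem isLocal_strA (W : S.Opens) (r : Γ(S, W)) : D.IsLocal W (strA W r) := by
  intro x hx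
  obtain ⟨β, hβ⟩ := D.cover x
  obtain ⟨g, hg, hxg⟩ := (D.affine β).exists_basicOpen_le (V := W) ⟨x, hx⟩ hβ
  exact ⟨β, g, hxg, hg, C (rX hg r), by rw [ev_C, ares_strA]⟩

/-- The sections over `W`. -/
def sect (W : S.Opens) : Subring (Amb f D.P W) where
  carrier := {s | D.IsLocal W s}
  zero_mem' := by simpa using D.isLocal_strA W 0
  one_mem' := by simpa using D.isLocal_strA W 1
  add_mem' {s t} hs ht x hx := by
    obtain ⟨β, g, hxg, ⟨h, p, hp⟩, h₂, q, hq⟩ := D.exists_common hs ht hx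
    exact ⟨β, g, hxg, h, p + q, by rw [map_add, map_add, hp, hq]⟩
  mul_mem' {s t} hs ht x hx := by
    obtain ⟨β, g, hxg, ⟨h, p, hp⟩, h₂, q, hq⟩ := D.exists_common hs ht hx
    exact ⟨β, g, hxg, h, p * q, by rw [map_mul, map_mul, hp, hq]⟩
  neg_mem' {s} hs x hx := by
    obtain ⟨β, g, hxg, h, p, hp⟩ := hs x hx
    exact ⟨β, g, hxg, h, -p, by rw [map_neg, map_neg, hp]⟩

theorem ares_mem {W W' : S.Opens} (h : W' ≤ W) {s : Amb f D.P W} (hs : s ∈ D.sect W) : ares h s ∈ D.sect W' := by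
  intro x hx
  obtain ⟨β, g, hxg, hle, p, hp⟩ := hs x (h hx)
  obtain ⟨g', hg', hxg'⟩ :=
    (D.affine β).exists_basicOpen_le (V := S.basicOpen g ⊓ W') ⟨x, hxg, hx⟩ (S.basicOpen_le g hxg)
  refine ⟨β, g', hxg', hg'.trans inf_le_right, polyRes (hg'.trans inf_le_left) p, ?_⟩
  have e := congrArg (ares (hg'.trans inf_le_left)) hp
  rw [ev_res, ares_ares] at e
  simp only [vres_vres] at e
  rw [ares_ares]
  exact e

/-- Restriction of sections. -/
def sres {W W' : S.Opens} (h : W' ≤ W) : D.sect W →+* D.sect W' :=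
  ((ares h).comp (D.sect W).subtype).codRestrict _ fun s => D.ares_mem h s.2

@[simp] theorem sres_coe {W W' : S.Opens} (h : W' ≤ W) (s : D.sect W) :
    (D.sres h s : Amb f D.P W') = ares h s := rfl

theorem sres_sres {W W' W'' : S.Opens} (h : W' ≤ W) (h' : W'' ≤ W') (s : D.sect W) :
    D.sres h' (D.sres h s) = D.sres (h'.trans h) s := Subtype.ext (ares_ares h h' s.1)

theorem sres_self {W : S.Opens} (h : W ≤ W) (s : D.sect W) : D.sres h s = s := Subtype.ext (ares_self h s.1)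

/-- The presheaf of rings. -/
def presheaf : TopCat.Presheaf CommRingCat.{u} S.carrier where
  obj W := CommRingCat.of (D.sect W.unop)
  map {W W'} i := CommRingCat.ofHom (D.sres i.unop.le)
  map_id W := CommRingCat.hom_ext (RingHom.ext fun s => D.sres_self le_rfl s)
  map_comp i j := CommRingCat.hom_ext (RingHom.ext fun s => (D.sres_sres i.unop.le j.unop.le s).symm)

theorem piece_le_iSup {J : Type*} {U : J → S.Opens} {W : S.Opens} (hc : W ≤ ⨆ k, U k) (a : D.I) :
    piece f D.P a W ≤ ⨆ k, piece f D.P a (U k) := by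
  intro x hx
  obtain ⟨k, hk⟩ := Opens.mem_iSup.1 (hc hx.2)
  exact Opens.mem_iSup.2 ⟨k, hx.1, hk⟩

theorem ext_cover {J : Type*} {U : J → S.Opens} {W : S.Opens} (hle : ∀ k, U k ≤ W) (hc : W ≤ ⨆ k, U k)
    {s t : D.sect W} (h : ∀ k, D.sres (hle k) s = D.sres (hle k) t) : s = t := by
  refine Subtype.ext (amb_ext fun a d => eq_of_cover (B := fun k => piece f D.P a (U k))
    (fun k => piece_mono a (hle k)) (D.piece_le_iSup hc a) fun k => ?_)
  have := congrArg (fun z => PowerSeries.coeff d (z.1 a)) (h k)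
  simp only [sres_coe, coeff_ares] at this
  exact this

theorem exists_glue {J : Type*} {U : J → S.Opens} {W : S.Opens} (hle : ∀ k, U k ≤ W) (hc : W ≤ ⨆ k, U k)
    (t : ∀ k, D.sect (U k)) (h : ∀ k l, D.sres (inf_le_left : U k ⊓ U l ≤ U k) (t k) =
      D.sres (inf_le_right : U k ⊓ U l ≤ U l) (t l)) : ∃ s : D.sect W, ∀ k, D.sres (hle k) s = t k := by
  have hg : ∀ (a : D.I) (d : ℕ), ∃ c : Γ(X, piece f D.P a W),
      ∀ k, rX (piece_mono a (hle k)) c = PowerSeries.coeff d ((t k).1 a) := by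
    intro a d
    obtain ⟨c, hc', -⟩ := X.sheaf.existsUnique_gluing' (fun k => piece f D.P a (U k)) (piece f D.P a W)
      (fun k => homOfLE (piece_mono a (hle k))) (D.piece_le_iSup hc a)
      (fun k => PowerSeries.coeff d ((t k).1 a)) fun k l => by
        have e := congrArg (fun z => PowerSeries.coeff d (z.1 a)) (h k l)
        simp only [sres_coe, coeff_ares] at e
        have hle' : piece f D.P a (U k) ⊓ piece f D.P a (U l) ≤ piece f D.P a (U k ⊓ U l) := fun x hx =>
          ⟨hx.1.1, hx.1.2, hx.2.2⟩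
        have e' := congrArg (rX hle') e
        rw [rX_rX, rX_rX] at e'
        exact e'
    exact ⟨c, hc'⟩
  choose c hc' using hg
  let s : Amb f D.P W := fun a => PowerSeries.mk (c a)
  have hs : ∀ k, ares (hle k) s = (t k).1 := fun k =>
    amb_ext fun a d => by rw [coeff_ares, PowerSeries.coeff_mk, hc']
  have hmem : s ∈ D.sect W := by
    intro x hx
    obtain ⟨k, hk⟩ := Opens.mem_iSup.1 (hc hx)
    obtain ⟨β, g, hxg, hgle, p, hp⟩ := (t k).2 x hk
    exact ⟨β, g, hxg, hgle.trans (hle k), p, by rw [hp, ← hs k, ares_ares]⟩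
  exact ⟨⟨s, hmem⟩, fun k => Subtype.ext (hs k)⟩

theorem isSheaf_presheaf : D.presheaf.IsSheaf := by
  rw [TopCat.Presheaf.isSheaf_iff_isSheaf_comp (forget CommRingCat)]
  refine TopCat.Presheaf.isSheaf_of_isSheafUniqueGluing_types _ ?_
  intro ι U sf hsf
  obtain ⟨s, hs⟩ := D.exists_glue (le_iSup U) le_rfl sf fun k l => hsf k l
  exact ⟨s, hs, fun y hy => D.ext_cover (le_iSup U) le_rfl fun k => (hy k).trans (hs k).symm⟩

/-- The structure map. -/
def strS (W : S.Opens) : Γ(S, W) →+* D.sect W := (strA W).codRestrict _ (D.isLocal_strA W)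

@[simp] theorem strS_coe (W : S.Opens) (r : Γ(S, W)) : (D.strS W r : Amb f D.P W) = strA W r := rfl

theorem sres_strS {W W' : S.Opens} (h : W' ≤ W) (r : Γ(S, W)) : D.sres h (D.strS W r) = D.strS W' (rX h r) :=
  Subtype.ext (ares_strA h r)

/-- The structure map as a morphism of presheaves. -/
def str : S.presheaf ⟶ D.presheaf where
  app W := CommRingCat.ofHom (D.strS W.unop)
  naturality W W' i := by
    ext r
    exact ((D.sres_strS i.unop.le r).trans (by
      rw [rX, show (homOfLE i.unop.le).op = i from Subsingleton.elim _ _]; rfl)).symm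

/-- Evaluation in the coordinates of `β` over a basic open, into the sections. -/
def evB (β : D.J) (g : Γ(S, D.U β)) :
    MvPolynomial (Fin (D.sys β).n) Γ(S, S.basicOpen g) →+* D.sect (S.basicOpen g) :=
  (ev (S.basicOpen g) fun k => vres (S.basicOpen_le g) ((D.sys β).c k)).codRestrict _
    (D.isLocal_ev (S.basicOpen_le g))

@[simp] theorem evB_coe (β : D.J) (g : Γ(S, D.U β)) (p : MvPolynomial (Fin (D.sys β).n) Γ(S, S.basicOpen g)) :
    (D.evB β g p : Amb f D.P (S.basicOpen g)) =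
      ev (S.basicOpen g) (fun k => vres (S.basicOpen_le g) ((D.sys β).c k)) p := rfl

theorem evB_C (β : D.J) (g : Γ(S, D.U β)) (r : Γ(S, S.basicOpen g)) : D.evB β g (C r) = D.strS _ r :=
  Subtype.ext (ev_C _ _ r)

end PData

end Groth.Agent.Lib.PProj
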