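import Groth.Agent.Lib.PProj.Sys
import Mathlib.RingTheory.Finiteness.Nakayama
import Mathlib.Combinatorics.Pigeonhole
import Mathlib.AlgebraicGeometry.Morphisms.Affine

/-!
# Adding vectors to a coordinate system

A vector proportional to the coordinates of a system automatically has an affine locus, on which the ratios generate:
the ideal of the ratios in the ring they generate is the whole ring by Nakayama.
-/

noncomputable section

universe u

open CategoryTheory AlgebraicGeometry TopologicalSpace Opposite MvPolynomial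
open scoped Pointwise

namespace Groth.Agent.Lib.PProj

variable {X S : Scheme.{u}} {f : X ⟶ S} {I : Type u} {P : I → X.Opens} {U : S.Opens}

/-- Proportional vectors. -/
def Prop2 (v w : Vec f P U) : Prop :=
  ∀ (a b : I) (W : X.Opens) (ha : W ≤ piece f P a U) (hb : W ≤ piece f P b U),
    rX ha (v a) * rX hb (w b) = rX ha (w a) * rX hb (v b)

theorem exists_div (hP : ∀ x, ∃ a, x ∈ P a) {v w : Vec f P U} (h : Prop2 v w) {O : X.Opens}
    (hO : O ≤ f ⁻¹ᵁ U) (hv : ∀ a, O ⊓ P a ≤ X.basicOpen (v a)) :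
    ∃ r : Γ(X, O), ∀ a (W : X.Opens) (hW : W ≤ O) (ha : W ≤ piece f P a U),
      rX ha (w a) = rX hW r * rX ha (v a) := by
  have hp : ∀ a, O ⊓ P a ≤ piece f P a U := fun a => le_inf inf_le_right (inf_le_left.trans hO)
  have hu : ∀ a, IsUnit (rX (hp a) (v a)) := fun a => isUnit_rX _ (hv a)
  let r : ∀ a, Γ(X, O ⊓ P a) := fun a => rX (hp a) (w a) * ↑(hu a).unit⁻¹
  have hr : ∀ a, rX (hp a) (w a) = r a * rX (hp a) (v a) := fun a => by
    rw [mul_assoc, IsUnit.val_inv_mul, mul_one]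
  have hcov : O ≤ ⨆ a, O ⊓ P a := fun x hx => by
    obtain ⟨a, ha⟩ := hP x
    exact Opens.mem_iSup.2 ⟨a, hx, ha⟩
  obtain ⟨R, hR, -⟩ := X.sheaf.existsUnique_gluing' (fun a => O ⊓ P a) O (fun a => homOfLE inf_le_left) hcov r
    fun a b => by
      show rX inf_le_left (r a) = rX inf_le_right (r b)
      have h1 := congrArg (rX (inf_le_left : O ⊓ P a ⊓ (O ⊓ P b) ≤ O ⊓ P a)) (hr a)
      have h2 := congrArg (rX (inf_le_right : O ⊓ P a ⊓ (O ⊓ P b) ≤ O ⊓ P b)) (hr b)
      simp only [map_mul, rX_rX] at h1 h2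
      have hu1 := (hu a).map (rX (inf_le_left : O ⊓ P a ⊓ (O ⊓ P b) ≤ O ⊓ P a))
      have hu2 := (hu b).map (rX (inf_le_right : O ⊓ P a ⊓ (O ⊓ P b) ≤ O ⊓ P b))
      rw [rX_rX] at hu1 hu2
      have h3 := h a b _ (inf_le_left.trans (hp a)) (inf_le_right.trans (hp b))
      rw [h1, h2] at h3
      refine (hu1.mul hu2).mul_right_cancel ?_
      linear_combination -h3
  have hR' : ∀ a, rX inf_le_left R = r a := hR
  refine ⟨R, fun a W hW ha => ?_⟩
  have hWa : W ≤ O ⊓ P a := le_inf hW (ha.trans inf_le_left)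
  have h1 := congrArg (rX hWa) (hr a)
  rw [← hR' a] at h1
  simp only [map_mul, rX_rX] at h1
  exact h1

namespace Sys

variable (T : Sys f P U)

/-- The locus of a vector. -/
def loc (v : Vec f P U) : X.Opens := ⨆ a, X.basicOpen (v a)

variable {T} {v : Vec f P U}

theorem loc_le (v : Vec f P U) : loc v ≤ f ⁻¹ᵁ U :=
  iSup_le fun a => (X.basicOpen_le _).trans inf_le_right

theorem loc_inf (hv : ∀ j, Prop2 v (T.c j)) (a : I) : loc v ⊓ P a = X.basicOpen (v a) := by
  refine le_antisymm ?_ (le_inf (le_iSup (fun a => X.basicOpen (v a)) a) ((X.basicOpen_le _).trans inf_le_left))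
  rintro x ⟨hx, hxa⟩
  obtain ⟨b, hb⟩ := Opens.mem_iSup.1 hx
  have hxb : x ∈ piece f P b U := X.basicOpen_le _ hb
  obtain ⟨j, hj⟩ := Opens.mem_iSup.1 (T.cover hxb.2)
  let W := piece f P a U ⊓ piece f P b U
  have hW : x ∈ W := ⟨⟨hxa, hxb.2⟩, hxb⟩
  have h := congrArg (fun s => X.basicOpen s) (hv j a b W inf_le_left inf_le_right)
  simp only [Scheme.basicOpen_mul, basicOpen_rX, ← T.L_inf] at h
  exact (h.ge ⟨⟨hW, hj, hxa⟩, hW, hb⟩).1.2

end Sys

theorem loc_main (T : Sys f P U) (hP : ∀ x, ∃ a, x ∈ P a) {v : Vec f P U} (hv : ∀ j, Prop2 v (T.c j))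
    (a : Fin T.n → Γ(X, Sys.loc v))
    (ha : ∀ k b (W : X.Opens) (hW : W ≤ Sys.loc v) (hb : W ≤ piece f P b U),
      rX hb (T.c k b) = rX hW (a k) * rX hb (v b)) :
    IsAffineOpen (Sys.loc v) ∧
      Subring.closure (Set.range (f.appLE U (Sys.loc v) (Sys.loc_le v)) ∪ Set.range a) = ⊤ := by
  classical
  let O : X.Opens := Sys.loc v
  let bB : Γ(S, U) →+* Γ(X, O) := (f.appLE U O (Sys.loc_le v)).hom
  let E : MvPolynomial (Fin T.n) Γ(S, U) →+* Γ(X, O) := eval₂Hom bB a
  let D : Fin T.n → X.Opens := fun k => X.basicOpen (a k)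
  have hO : ∀ b, O ⊓ P b = X.basicOpen (v b) := fun b => Sys.loc_inf hv b
  have hD : ∀ k, D k = O ⊓ T.L k := fun k => by
    refine le_antisymm ?_ ?_
    · intro x hx
      have hxO : x ∈ O := X.basicOpen_le _ hx
      obtain ⟨b, hb⟩ := hP x
      have hW : O ⊓ P b ≤ piece f P b U := le_inf inf_le_right (inf_le_left.trans (Sys.loc_le v))
      have h := congrArg (fun s => X.basicOpen s) (ha k b (O ⊓ P b) inf_le_left hW)
      simp only [Scheme.basicOpen_mul, basicOpen_rX, ← T.L_inf, ← hO] at h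
      exact ⟨hxO, (h.ge ⟨⟨⟨hxO, hb⟩, hx⟩, ⟨hxO, hb⟩, hxO, hb⟩).2.1⟩
    · rintro x ⟨hxO, hxk⟩
      obtain ⟨b, hb⟩ := hP x
      have hW : O ⊓ P b ≤ piece f P b U := le_inf inf_le_right (inf_le_left.trans (Sys.loc_le v))
      have h := congrArg (fun s => X.basicOpen s) (ha k b (O ⊓ P b) inf_le_left hW)
      simp only [Scheme.basicOpen_mul, basicOpen_rX, ← T.L_inf] at h
      exact (h.le ⟨⟨hxO, hb⟩, hxk, hb⟩).1.2
  have hcov : ∀ x ∈ O, ∃ k, x ∈ D k := fun x hx => by
    obtain ⟨k, hk⟩ := Opens.mem_iSup.1 (T.cover (Sys.loc_le v hx))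
    exact ⟨k, (hD k).ge ⟨hx, hk⟩⟩
  have hDO : ∀ k, D k ≤ O := fun k => X.basicOpen_le _
  have hDL : ∀ k, D k ≤ T.L k := fun k => (hD k).le.trans inf_le_right
  -- the vector in the coordinates of `T`
  have hs : ∀ k, ∃ s : Γ(X, T.L k), ∀ b (W : X.Opens) (hW : W ≤ T.L k) (hb : W ≤ piece f P b U),
      rX hb (v b) = rX hW s * rX hb (T.c k b) := fun k =>
    exists_div hP (fun b b' W hb hb' => (hv k b b' W hb hb').symm) (T.L_le k) fun b => (T.L_inf k b).le
  choose s hs using hs
  have hext : ∀ k (y z : Γ(X, D k)), (∀ b (W : X.Opens) (hW : W ≤ D k) (hb : W ≤ piece f P b U),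
      rX hW y * rX hb (T.c k b) = rX hW z * rX hb (T.c k b)) → y = z := by
    intro k y z h
    refine eq_of_cover (B := fun b => D k ⊓ P b) (fun b => inf_le_left) (fun x hx => ?_) fun b => ?_
    · obtain ⟨b, hb⟩ := hP x
      exact Opens.mem_iSup.2 ⟨b, hx, hb⟩
    · exact (isUnit_rX _ ((inf_le_inf_right _ (hDL k)).trans (T.L_inf k b).le)).mul_right_cancel
        (h b _ inf_le_left (le_inf inf_le_right (inf_le_left.trans ((hDL k).trans (T.L_le k)))))
  have has : ∀ k, rX (hDO k) (a k) * rX (hDL k) (s k) = 1 := fun k => hext k _ _ fun b W hW hb => by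
    rw [map_mul, map_one, one_mul, mul_assoc, rX_rX, rX_rX, ← hs k b W (hW.trans (hDL k)) hb]
    exact (ha k b W (hW.trans (hDO k)) hb).symm
  have hau : ∀ k l, rX (hDO k) (a l) = rX (hDO k) (a k) * rX (hDL k) (T.u k l) := fun k l =>
    hext k _ _ fun b W hW hb => by
      have hb' : W ≤ T.L k ⊓ P b := le_inf (hW.trans (hDL k)) (hb.trans inf_le_left)
      have e := congrArg (rX hb') (T.rel' k l b)
      simp only [map_mul, rX_rX] at e
      have hv' := hs k b W (hW.trans (hDL k)) hb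
      have ha' := ha l b W (hW.trans (hDO k)) hb
      have has' := congrArg (rX hW) (has k)
      simp only [map_mul, map_one, rX_rX] at has' ⊢
      rw [hv', e] at ha'
      linear_combination (rX (hW.trans (hDO k)) (a k)) * (-ha') -
        (rX (hW.trans (hDO k)) (a l) * rX hb (T.c k b)) * has'
  have hbase : ∀ k r, rX (hDO k) (bB r) = rX (hDL k) (T.baseL k r) := fun k r => by
    simp only [rX, bB, Sys.baseL]
    rw [← CommRingCat.comp_apply, ← CommRingCat.comp_apply, Scheme.Hom.appLE_map, Scheme.Hom.appLE_map]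
  have hhom : ∀ k (q : MvPolynomial (Fin T.n) Γ(S, U)) (d : ℕ), q.IsHomogeneous d →
      rX (hDO k) (E q) = rX (hDO k) (a k) ^ d * rX (hDL k) (T.evalL k q) := fun k q d hq => by
    let g : Γ(S, U) →+* Γ(X, D k) := (rX (hDO k)).comp bB
    have h1 : (rX (hDO k)).comp E = eval₂Hom g fun l => rX (hDO k) (a k) * rX (hDL k) (T.u k l) := by
      apply MvPolynomial.ringHom_ext
      · intro r; simp [E, g]
      · intro l; simp [E, hau k l]
    have h2 : (rX (hDL k)).comp (T.evalL k) = eval₂Hom g fun l => rX (hDL k) (T.u k l) := by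
      apply MvPolynomial.ringHom_ext
      · intro r; simp [Sys.evalL, g, hbase]
      · intro l; simp [Sys.evalL]
    refine (DFunLike.congr_fun h1 q).trans ?_
    rw [ProjSpace.Charts.eval₂Hom_mul_of_isHomogeneous _ _ _ hq]
    exact congrArg (_ * ·) (DFunLike.congr_fun h2 q).symm
  let B0 : Subring Γ(X, O) := E.range
  have haB : ∀ k, a k ∈ B0 := fun k => ⟨MvPolynomial.X k, by simp [E]⟩
  let a0 : Fin T.n → B0 := fun k => ⟨a k, haB k⟩
  let J : Ideal B0 := Ideal.span (Set.range a0)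
  have hEJ : ∀ (q : MvPolynomial (Fin T.n) Γ(S, U)) (d : ℕ), q.IsHomogeneous d → E.rangeRestrict q ∈ J ^ d := by
    intro q d hq
    rw [← q.support_sum_monomial_coeff, map_sum]
    refine sum_mem fun e he => ?_
    have hd : ∑ l, e l = d := by
      have := hq (MvPolynomial.mem_support_iff.1 he)
      rw [Finsupp.weight_apply, Finsupp.sum_fintype _ _ (fun _ => by simp)] at this
      simpa using this
    rw [monomial_eq, map_mul, Finsupp.prod_fintype _ _ (fun _ => pow_zero _), map_prod]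
    refine Ideal.mul_mem_left _ _ ?_
    rw [← hd, ← Finset.prod_pow_eq_pow_sum]
    refine Ideal.prod_mem_prod fun l _ => ?_
    rw [map_pow]
    refine Ideal.pow_mem_pow ?_ _
    rw [show E.rangeRestrict (MvPolynomial.X l) = a0 l from Subtype.ext (by simp [E, a0])]
    exact Ideal.subset_span ⟨l, rfl⟩
  -- multiples of a function of the locus in the generated ring
  have hmul : ∀ k (q : MvPolynomial (Fin T.n) Γ(S, U)), ∃ d : ℕ, ∀ d', d ≤ d' → ∃ z : B0, z ∈ J ^ d' ∧
      rX (hDO k) (z : Γ(X, O)) = rX (hDO k) (a k) ^ d' * rX (hDL k) (T.evalL k q) := fun k q =>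
    ⟨q.totalDegree, fun d hd => ⟨∑ e ∈ Finset.range (q.totalDegree + 1),
      a0 k ^ (d - e) * E.rangeRestrict (homogeneousComponent e q), sum_mem fun e he => by
        have he' : e ≤ d := (Nat.le_of_lt_succ (Finset.mem_range.1 he)).trans hd
        have := Ideal.mul_mem_mul (Ideal.pow_mem_pow (show a0 k ∈ J from Ideal.subset_span ⟨k, rfl⟩) (d - e))
          (hEJ _ e (homogeneousComponent_isHomogeneous e q))
        rwa [← pow_add, Nat.sub_add_cancel he'] at this, by
      rw [AddSubmonoidClass.coe_finset_sum, map_sum]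
      conv_rhs => rw [← sum_homogeneousComponent q, map_sum, map_sum, Finset.mul_sum]
      refine Finset.sum_congr rfl fun e he => ?_
      have he' : e ≤ d := (Nat.le_of_lt_succ (Finset.mem_range.1 he)).trans hd
      rw [Subring.coe_mul, map_mul, SubmonoidClass.coe_pow, map_pow, RingHom.coe_rangeRestrict,
        hhom k _ e (homogeneousComponent_isHomogeneous e q), ← mul_assoc, ← pow_add, Nat.sub_add_cancel he']⟩⟩
  have hDs : ∀ k, D k = X.basicOpen (s k) := fun k => by
    refine le_antisymm (fun x hx => ?_) fun x hx => ?_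
    · obtain ⟨b, hb⟩ := hP x
      have hxO : x ∈ O := hDO k hx
      have hW : T.L k ⊓ P b ≤ piece f P b U := le_inf inf_le_right (inf_le_left.trans (T.L_le k))
      have h := congrArg (fun t => X.basicOpen t) (hs k b (T.L k ⊓ P b) inf_le_left hW)
      simp only [Scheme.basicOpen_mul, basicOpen_rX, ← T.L_inf, ← hO] at h
      exact (h.le ⟨⟨hDL k hx, hb⟩, hxO, hb⟩).1.2
    · obtain ⟨b, hb⟩ := hP x
      have hxk : x ∈ T.L k := X.basicOpen_le _ hx
      have hW : T.L k ⊓ P b ≤ piece f P b U := le_inf inf_le_right (inf_le_left.trans (T.L_le k))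
      have h := congrArg (fun t => X.basicOpen t) (hs k b (T.L k ⊓ P b) inf_le_left hW)
      simp only [Scheme.basicOpen_mul, basicOpen_rX, ← T.L_inf, ← hO] at h
      exact (hD k).ge ⟨(h.ge ⟨⟨⟨hxk, hb⟩, hx⟩, ⟨hxk, hb⟩, hxk, hb⟩).2.1, hxk⟩
  have hcpt : IsCompact (O : Set X) := by
    have e : O = ⨆ k, D k := le_antisymm (fun x hx => Opens.mem_iSup.2 (hcov x hx)) (iSup_le hDO)
    rw [e, Opens.coe_iSup]
    refine isCompact_iUnion fun k => ?_
    rw [hDs k]
    exact ((T.affine k).basicOpen _).isCompact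
  have kill : ∀ k (y : Γ(X, O)), rX (hDO k) y = 0 → ∃ m, a k ^ m * y = 0 := fun k y hy =>
    exists_pow_mul_eq_zero_of_res_basicOpen_eq_zero_of_isCompact X hcpt y (a k) hy
  -- the ratios generate the unit ideal
  have hN : ∀ k, ∃ N : ℕ, a0 k ^ N ∈ J ^ (N + 1) := fun k => by
    obtain ⟨q, hq⟩ : s k ∈ Set.range (T.evalL k) := by
      refine (Subring.closure_le (t := (T.evalL k).range)).2 ?_ ((T.gen k).ge (Subring.mem_top (s k)))
      rintro _ (⟨r, rfl⟩ | ⟨l, rfl⟩)
      · exact ⟨C r, by simp [Sys.evalL]; rfl⟩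
      · exact ⟨MvPolynomial.X l, by simp [Sys.evalL]⟩
    obtain ⟨d, hd⟩ := hmul k q
    obtain ⟨z, hz, hzk⟩ := hd (d + 1) (Nat.le_succ d)
    rw [hq, pow_succ, mul_assoc, has k, mul_one] at hzk
    obtain ⟨m, hm⟩ := kill k ((z : Γ(X, O)) - a k ^ d) (by rw [map_sub, map_pow, hzk, sub_self])
    refine ⟨m + d, ?_⟩
    have e : a0 k ^ (m + d) = a0 k ^ m * z := Subtype.ext (by
      push_cast
      simp only [a0]
      linear_combination -hm)
    rw [e]
    have := Ideal.mul_mem_mul (Ideal.pow_mem_pow (show a0 k ∈ J from Ideal.subset_span ⟨k, rfl⟩) m) hz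
    rwa [← pow_add, ← Nat.add_assoc] at this
  choose N hN using hN
  let K := Finset.univ.sup N
  have hK : ∀ k, a0 k ^ K ∈ J ^ (K + 1) := fun k => by
    obtain ⟨e, he⟩ := Nat.exists_eq_add_of_le (Finset.le_sup (f := N) (Finset.mem_univ k))
    have := Ideal.mul_mem_mul (hN k) (Ideal.pow_mem_pow (show a0 k ∈ J from Ideal.subset_span ⟨k, rfl⟩) e)
    rw [← pow_add, ← pow_add, ← he, Nat.add_right_comm, ← he] at this
    exact this
  let M := T.n * K + 1
  have hle : J ^ M ≤ J • J ^ M := by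
    have hs : J ^ M = Ideal.span (Set.range a0 ^ M) := Submodule.span_pow _ _
    conv_lhs => rw [hs]
    rw [Ideal.span_le]
    intro y hy
    obtain ⟨w, rfl⟩ := Set.mem_pow.1 hy
    rw [List.prod_ofFn]
    choose g hg using fun i => (w i).2
    obtain ⟨k, hk⟩ := Fintype.exists_lt_card_fiber_of_mul_lt_card g (n := K) (by simp [M])
    obtain ⟨F, hF, hFc⟩ := Finset.exists_subset_card_eq hk.le
    rw [← Finset.prod_sdiff (Finset.subset_univ F)]
    have e : ∏ i ∈ F, ((w i : B0)) = a0 k ^ K := by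
      rw [← hFc]
      exact Finset.prod_eq_pow_card fun i hi => by rw [← hg i, (Finset.mem_filter.1 (hF hi)).2]
    rw [e, smul_eq_mul, ← pow_succ']
    have h1 : ∏ i ∈ Finset.univ \ F, ((w i : B0)) ∈ J ^ (Finset.univ \ F).card := by
      rw [← Finset.prod_const]
      exact Ideal.prod_mem_prod fun i _ => Ideal.subset_span (w i).2
    have := Ideal.mul_mem_mul h1 (hK k)
    rw [← pow_add, Finset.card_univ_diff, Fintype.card_fin, hFc] at this
    have hKM : K ≤ M := by
      rw [← hFc]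
      exact (Finset.card_le_univ F).trans (Fintype.card_fin M).le
    rwa [show M - K + (K + 1) = M + 1 by omega] at this
  obtain ⟨r, hr1, hr⟩ := Submodule.exists_sub_one_mem_and_smul_eq_zero_of_fg_of_le_smul J (J ^ M)
    ((Submodule.fg_span (Set.finite_range a0)).pow M) hle
  have hr0 : r = 0 := by
    refine Subtype.ext (eq_of_cover (B := D) hDO (fun x hx => Opens.mem_iSup.2 (hcov x hx)) fun k => ?_)
    have h := congrArg (fun y : B0 => rX (hDO k) (y : Γ(X, O)))
      (hr _ (Ideal.pow_mem_pow (show a0 k ∈ J from Ideal.subset_span ⟨k, rfl⟩) M))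
    simp only [smul_eq_mul, Subring.coe_mul, SubmonoidClass.coe_pow, map_mul, map_pow, ZeroMemClass.coe_zero,
      map_zero] at h ⊢
    exact ((IsUnit.of_mul_eq_one _ (has k)).pow M).mul_left_eq_zero.1 h
  have htop : J = ⊤ := (Ideal.eq_top_iff_one J).2 (by
    have := J.neg_mem hr1
    simpa [hr0] using this)
  have haff : IsAffineOpen O := by
    refine isAffineOpen_of_isAffineOpen_basicOpen O (Set.range a) ?_ ?_
    · have := congrArg (Ideal.map B0.subtype) htop
      rw [Ideal.map_span, Ideal.map_top, ← Set.range_comp] at this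
      exact this
    · rintro _ ⟨k, rfl⟩
      show IsAffineOpen (D k)
      rw [hDs k]
      exact (T.affine k).basicOpen _
  refine ⟨haff, eq_top_iff.2 fun z _ => ?_⟩
  have hB0 : B0 ≤ Subring.closure (Set.range (f.appLE U O (Sys.loc_le v)) ∪ Set.range a) := by
    rintro _ ⟨q, rfl⟩
    induction q using MvPolynomial.induction_on with
    | C r => exact Subring.subset_closure (Or.inl ⟨r, by simp [E, bB]⟩)
    | add p q hp hq => rw [map_add]; exact add_mem hp hq
    | mul_X p l hp => rw [map_mul]; exact mul_mem hp (Subring.subset_closure (Or.inr ⟨l, by simp [E]⟩))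
  refine hB0 ?_
  have key : ∀ k, ∃ m, a k ^ m * z ∈ B0 := fun k => by
    obtain ⟨e, w, hw⟩ : ∃ (e : ℕ) (w : Γ(X, T.L k)), rX (hDO k) z * rX (hDL k) (s k) ^ e = rX (hDL k) w := by
      let := (rX (hDL k)).toAlgebra
      haveI : IsLocalization.Away (s k) Γ(X, D k) :=
        (T.affine k).isLocalization_of_eq_basicOpen _ (homOfLE (hDL k)) (hDs k)
      obtain ⟨e, w, hw⟩ := IsLocalization.Away.surj (s k) (rX (hDO k) z)
      exact ⟨e, w, hw⟩
    obtain ⟨q, hq⟩ : w ∈ Set.range (T.evalL k) := by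
      refine (Subring.closure_le (t := (T.evalL k).range)).2 ?_ ((T.gen k).ge (Subring.mem_top w))
      rintro _ (⟨r, rfl⟩ | ⟨l, rfl⟩)
      · exact ⟨C r, by simp [Sys.evalL]; rfl⟩
      · exact ⟨MvPolynomial.X l, by simp [Sys.evalL]⟩
    obtain ⟨d, hd⟩ := hmul k q
    obtain ⟨y, -, hy⟩ := hd d le_rfl
    rw [hq, ← hw] at hy
    have hy' : rX (hDO k) ((y : Γ(X, O)) * a k ^ e - a k ^ d * z) = 0 := by
      have h1 := congrArg (· ^ e) (has k)
      simp only [mul_pow, one_pow] at h1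
      rw [map_sub, map_mul, map_mul, map_pow, map_pow, hy]
      linear_combination (rX (hDO k) (a k) ^ d * rX (hDO k) z) * h1
    obtain ⟨m, hm⟩ := kill k _ hy'
    refine ⟨m + d, ?_⟩
    rw [show a k ^ (m + d) * z = a k ^ m * (y * a k ^ e) by linear_combination -hm]
    exact mul_mem (pow_mem (haB k) m) (mul_mem y.2 (pow_mem (haB k) e))
  choose m hm using key
  let Icolon : Ideal B0 := {
    carrier := {b | (b : Γ(X, O)) * z ∈ B0}
    add_mem' := fun {b c} hb hc => by
      show ((b + c : B0) : Γ(X, O)) * z ∈ B0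
      rw [Subring.coe_add, add_mul]
      exact add_mem hb hc
    zero_mem' := by simp
    smul_mem' := fun c b hb => by
      show ((c * b : B0) : Γ(X, O)) * z ∈ B0
      rw [Subring.coe_mul, mul_assoc]
      exact mul_mem c.2 hb }
  have hI : (1 : B0) ∈ Icolon := by
    let Mx := Finset.univ.sup m
    refine (Ideal.span_le.2 ?_) ((Ideal.span_pow_eq_top _ htop Mx).ge (Submodule.mem_top (x := (1 : B0))))
    rintro _ ⟨_, ⟨k, rfl⟩, rfl⟩
    obtain ⟨e, he⟩ := Nat.exists_eq_add_of_le (Finset.le_sup (f := m) (Finset.mem_univ k))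
    show ((a0 k ^ Mx : B0) : Γ(X, O)) * z ∈ B0
    rw [SubmonoidClass.coe_pow, show Mx = m k + e from he, pow_add, mul_right_comm]
    exact mul_mem (hm k) (pow_mem (haB k) e)
  have h1 : ((1 : B0) : Γ(X, O)) * z ∈ B0 := hI
  rwa [Subring.coe_one, one_mul] at h1

/-- Enlarging a system by proportional vectors. -/
theorem Sys.exists_extend (T : Sys f P U) (hP : ∀ x, ∃ a, x ∈ P a) {m : ℕ} (w : Fin m → Vec f P U)
    (ι : Fin T.n → Fin m) (hι : ∀ j, w (ι j) = T.c j) (h : ∀ i j, Prop2 (w i) (w j)) :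
    ∃ T' : Sys f P U, ∃ e : T'.n = m, ∀ j, T'.c j = w (Fin.cast e j) := by
  have hv : ∀ i j, Prop2 (w i) (T.c j) := fun i j => by rw [← hι]; exact h i (ι j)
  have hdiv := fun i k => exists_div hP (h i k) (Sys.loc_le (w i)) fun a => (Sys.loc_inf (hv i) a).le
  choose r hr using hdiv
  have hmain : ∀ i, IsAffineOpen (Sys.loc (w i)) ∧
      Subring.closure (Set.range (f.appLE U (Sys.loc (w i)) (Sys.loc_le (w i))) ∪
        Set.range fun k => r i (ι k)) = ⊤ := fun i =>
    loc_main T hP (hv i) (fun k => r i (ι k)) fun k b W hW hb => by rw [← hι k]; exact hr i (ι k) b W hW hb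
  refine ⟨{
    n := m
    c := w
    L := fun i => Sys.loc (w i)
    L_le := fun i => Sys.loc_le _
    affine := fun i => (hmain i).1
    cover := fun x hx => ?_
    L_inf := fun i a => Sys.loc_inf (hv i) a
    u := r
    rel := fun i k a => hr i k a _ inf_le_left _
    gen := fun i => eq_top_iff.2 ((hmain i).2.ge.trans (Subring.closure_mono
      (Set.union_subset_union_right _ (Set.range_comp_subset_range ι (r i))))) }, rfl, fun _ => rfl⟩
  obtain ⟨j, hj⟩ := Opens.mem_iSup.1 (T.cover hx)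
  obtain ⟨a, ha⟩ := hP x
  refine Opens.mem_iSup.2 ⟨ι j, ?_⟩
  rw [hι j]
  exact Opens.mem_iSup.2 ⟨a, (T.L_inf j a).le ⟨hj, ha⟩⟩

end Groth.Agent.Lib.PProj
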