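import Groth.Agent.Lib.PProj.Sys
import Groth.Agent.Lib.HProj.AffineBase
import Mathlib.AlgebraicGeometry.ProjectiveSpectrum.Functor
import Mathlib.AlgebraicGeometry.ProjectiveSpectrum.Proper

/-!
# The standard affine opens of a relative `Proj` and their coordinate rings
-/

noncomputable section

universe u

open CategoryTheory AlgebraicGeometry TopologicalSpace Opposite HomogeneousLocalization

namespace Groth.Agent.Lib.PProj.FromProj

variable {P S : Scheme.{u}} {p : P ⟶ S} {𝒮 : RelProj.QCGrAlg S}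
  (chart : ∀ (U : S.Opens) (hU : IsAffineOpen U), ((p ⁻¹ᵁ U : P.Opens) : Scheme.{u}) ≅ Proj (𝒮.deg U hU))

/-- `W` is a basic open of `U`. -/
def Basic (U W : S.Opens) : Prop := ∃ g : Γ(S, U), S.basicOpen g = W

theorem Basic.le {U W : S.Opens} (h : Basic U W) : W ≤ U := by
  obtain ⟨g, rfl⟩ := h
  exact S.basicOpen_le g

theorem Basic.trans {U V W : S.Opens} (hU : IsAffineOpen U) (h : Basic U V) (h' : Basic V W) : Basic U W := by
  obtain ⟨g, rfl⟩ := h
  obtain ⟨g', rfl⟩ := h'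
  exact hU.basicOpen_basicOpen_is_basicOpen g g'

theorem exists_basic {U V : S.Opens} (hU : IsAffineOpen U) (hV : IsAffineOpen V) {y : S} (hy : y ∈ U)
    (hy' : y ∈ V) : ∃ W : S.Opens, IsAffineOpen W ∧ Basic U W ∧ Basic V W ∧ y ∈ W := by
  obtain ⟨g, g', he, hyg⟩ := exists_basicOpen_le_affine_inter hU hV y ⟨hy, hy'⟩
  exact ⟨S.basicOpen g, hU.basicOpen g, ⟨g, rfl⟩, ⟨g', he.symm⟩, hyg⟩

/-- The standard open of `t`. -/
def Po (U : S.Opens) (hU : IsAffineOpen U) (t : 𝒮.presheaf.obj (op U)) : P.Opens :=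
  (p ⁻¹ᵁ U).ι ''ᵁ ((chart U hU).hom ⁻¹ᵁ Proj.basicOpen (𝒮.deg U hU) t)

theorem Po_le {U : S.Opens} (hU : IsAffineOpen U) (t : 𝒮.presheaf.obj (op U)) : Po chart U hU t ≤ p ⁻¹ᵁ U := by
  rintro _ ⟨x, -, rfl⟩
  exact x.2

theorem mem_Po_iff {U : S.Opens} (hU : IsAffineOpen U) (t : 𝒮.presheaf.obj (op U)) {x : P} (hx : p x ∈ U) :
    x ∈ Po chart U hU t ↔ (chart U hU).hom ⟨x, hx⟩ ∈ Proj.basicOpen (𝒮.deg U hU) t := by
  constructor
  · rintro ⟨y, hy, hyx⟩
    obtain rfl : y = ⟨x, hx⟩ := Subtype.ext hyx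
    exact hy
  · exact fun h => ⟨⟨x, hx⟩, h, rfl⟩

theorem Po_mul {U : S.Opens} (hU : IsAffineOpen U) (t g : 𝒮.presheaf.obj (op U)) :
    Po chart U hU (t * g) = Po chart U hU t ⊓ Po chart U hU g := by
  ext x
  simp only [Opens.coe_inf, Set.mem_inter_iff, SetLike.mem_coe]
  by_cases hx : p x ∈ U
  · rw [mem_Po_iff chart hU _ hx, mem_Po_iff chart hU _ hx, mem_Po_iff chart hU _ hx, Proj.basicOpen_mul]
    rfl
  · exact ⟨fun h => (hx (Po_le chart hU _ h)).elim, fun h => (hx (Po_le chart hU _ h.1)).elim⟩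

theorem Po_res (hP : RelProj.IsRelProj 𝒮 p chart) {U W : S.Opens} (hU : IsAffineOpen U) (hW : IsAffineOpen W)
    (b : Basic U W) (t : 𝒮.presheaf.obj (op U)) :
    Po chart W hW (𝒮.res hU hW b.le t) = Po chart U hU t ⊓ p ⁻¹ᵁ W := by
  obtain ⟨g, rfl⟩ := b
  ext x
  simp only [Opens.coe_inf, Set.mem_inter_iff, SetLike.mem_coe]
  by_cases hx : p x ∈ S.basicOpen g
  · have hxU : p x ∈ U := S.basicOpen_le g hx
    rw [mem_Po_iff chart hW _ hx, mem_Po_iff chart hU _ hxU]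
    have e : (chart U hU).hom ⟨x, hxU⟩ =
        Proj.map (𝒮.res hU (hU.basicOpen g) (S.basicOpen_le g)) (𝒮.irrelevant_le_map U hU g)
          ((chart (S.basicOpen g) (hU.basicOpen g)).hom ⟨x, hx⟩) := by
      rw [← Scheme.Hom.comp_apply, ← hP.chart_res U hU g, Scheme.Hom.comp_apply]
      congr 1
      apply Subtype.ext
      have := congrArg (fun k => k (⟨x, hx⟩ : (p ⁻¹ᵁ S.basicOpen g : P.Opens)))
        (P.homOfLE_ι (p.preimage_mono (S.basicOpen_le g)))
      exact this.symm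
    rw [e]
    exact ⟨fun h => ⟨h, hx⟩, fun h => h.1⟩
  · exact ⟨fun h => (hx (Po_le chart hW _ h)).elim, fun h => (hx h.2).elim⟩

variable {U : S.Opens} (hU : IsAffineOpen U) {m : ℕ} {t : 𝒮.presheaf.obj (op U)} (ht : t ∈ 𝒮.deg U hU m) (hm : 0 < m)

/-- The parametrisation of a standard open. -/
def κ : Spec (CommRingCat.of (Away (𝒮.deg U hU) t)) ⟶ P :=
  Proj.awayι (𝒮.deg U hU) t ht hm ≫ (chart U hU).inv ≫ (p ⁻¹ᵁ U).ι

instance isOpenImmersion_κ : IsOpenImmersion (κ chart hU ht hm) := by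
  unfold κ; infer_instance

theorem opensRange_κ : (κ chart hU ht hm).opensRange = Po chart U hU t := by
  unfold κ Po
  rw [Scheme.Hom.opensRange_comp, Scheme.Hom.comp_image, Proj.opensRange_awayι]
  congr 1
  ext x
  constructor
  · rintro ⟨y, hy, rfl⟩
    show (chart U hU).hom ((chart U hU).inv y) ∈ Proj.basicOpen (𝒮.deg U hU) t
    have e := congrArg (fun k => k y) (chart U hU).inv_hom_id
    simp only [Scheme.Hom.comp_apply] at e
    rw [e]
    exact hy
  · intro hx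
    refine ⟨(chart U hU).hom x, hx, ?_⟩
    have e := congrArg (fun k => k x) (chart U hU).hom_inv_id
    simp only [Scheme.Hom.comp_apply] at e
    exact e

theorem top_le_preimage : (⊤ : (Spec (CommRingCat.of (Away (𝒮.deg U hU) t))).Opens) ≤
    κ chart hU ht hm ⁻¹ᵁ Po chart U hU t := fun x _ => by
  rw [← opensRange_κ chart hU ht hm]
  exact ⟨x, rfl⟩

include ht hm in
theorem isAffineOpen_Po : IsAffineOpen (Po chart U hU t) := by
  rw [← opensRange_κ chart hU ht hm]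
  exact isAffineOpen_opensRange _

/-- The coordinate ring of a standard open. -/
def μ : Γ(P, Po chart U hU t) →+* Away (𝒮.deg U hU) t :=
  ((κ chart hU ht hm).appLE (Po chart U hU t) ⊤ (top_le_preimage chart hU ht hm) ≫
    (Scheme.ΓSpecIso (CommRingCat.of (Away (𝒮.deg U hU) t))).hom).hom

theorem μ_bijective : Function.Bijective (μ chart hU ht hm) := by
  have key : ∀ (A : P.Opens) (hA : A = κ chart hU ht hm ''ᵁ ⊤) (e : ⊤ ≤ κ chart hU ht hm ⁻¹ᵁ A),
      IsIso ((κ chart hU ht hm).appLE A ⊤ e) := by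
    rintro A rfl e
    have h := Scheme.Hom.appIso_inv_appLE (κ chart hU ht hm) (U := ⊤) (V := ⊤) e
    have h' : (κ chart hU ht hm).appLE (κ chart hU ht hm ''ᵁ ⊤) ⊤ e = ((κ chart hU ht hm).appIso ⊤).hom := by
      rw [← Iso.inv_comp_eq_id]
      exact h.trans (CategoryTheory.Functor.map_id _ _)
    rw [h']
    infer_instance
  haveI := key (Po chart U hU t) (by rw [Scheme.Hom.image_top_eq_opensRange, opensRange_κ])
    (top_le_preimage chart hU ht hm)
  exact ConcreteCategory.bijective_of_isIso ((κ chart hU ht hm).appLE (Po chart U hU t) ⊤ _ ≫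
    (Scheme.ΓSpecIso (CommRingCat.of (Away (𝒮.deg U hU) t))).hom)

theorem μ_natural {V : S.Opens} (hV : IsAffineOpen V) {m' : ℕ} {t' : 𝒮.presheaf.obj (op V)}
    (ht' : t' ∈ 𝒮.deg V hV m') (hm' : 0 < m') (φ : Away (𝒮.deg U hU) t →+* Away (𝒮.deg V hV) t')
    (hφ : Spec.map (CommRingCat.ofHom φ) ≫ κ chart hU ht hm = κ chart hV ht' hm')
    (h : Po chart V hV t' ≤ Po chart U hU t) (z : Γ(P, Po chart U hU t)) :
    μ chart hV ht' hm' (rX h z) = φ (μ chart hU ht hm z) := by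
  have e1 : P.presheaf.map (homOfLE h).op ≫ (κ chart hV ht' hm').appLE _ ⊤ (top_le_preimage chart hV ht' hm') =
      (κ chart hU ht hm).appLE (Po chart U hU t) ⊤ (top_le_preimage chart hU ht hm) ≫
        (Spec.map (CommRingCat.ofHom φ)).appTop := by
    rw [Scheme.Hom.map_appLE,
      show (Spec.map (CommRingCat.ofHom φ)).appTop = (Spec.map (CommRingCat.ofHom φ)).appLE ⊤ ⊤ le_rfl from
        Scheme.Hom.app_eq_appLE _, Scheme.Hom.appLE_comp_appLE]
    simp only [hφ]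
  show ((P.presheaf.map (homOfLE h).op ≫ (κ chart hV ht' hm').appLE _ ⊤ _) ≫ (Scheme.ΓSpecIso _).hom) z = _
  rw [e1, Category.assoc, Scheme.ΓSpecIso_naturality]
  rfl

theorem preimage_basicOpen_κ (z : Γ(P, Po chart U hU t)) :
    κ chart hU ht hm ⁻¹ᵁ P.basicOpen z = PrimeSpectrum.basicOpen (μ chart hU ht hm z) := by
  rw [Scheme.preimage_basicOpen]
  refine Eq.trans ?_ (basicOpen_eq_of_affine' ((κ chart hU ht hm).appLE (Po chart U hU t) ⊤
    (top_le_preimage chart hU ht hm) z))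
  rw [Scheme.Hom.appLE, CommRingCat.comp_apply]
  refine ((Scheme.basicOpen_res _ _ _).trans ?_).symm
  exact inf_eq_right.2 le_top

theorem κ_preimage_Po {m' : ℕ} {g : 𝒮.presheaf.obj (op U)} (hg : g ∈ 𝒮.deg U hU m') (hm' : 0 < m') :
    κ chart hU ht hm ⁻¹ᵁ Po chart U hU g = PrimeSpectrum.basicOpen (Away.isLocalizationElem ht hg) := by
  rw [← Proj.awayι_preimage_basicOpen (𝒮.deg U hU) ht hm hg hm', κ, Po]
  simp only [Scheme.Hom.comp_preimage, Scheme.Hom.preimage_image_eq]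
  rw [← Scheme.Hom.comp_preimage (chart U hU).inv (chart U hU).hom, Iso.inv_hom_id, Scheme.Hom.id_preimage]

theorem κ_res (hP : RelProj.IsRelProj 𝒮 p chart) {W : S.Opens} (hW : IsAffineOpen W) (b : Basic U W) :
    Spec.map (CommRingCat.ofHom (Away.map (𝒮.res hU hW b.le) t)) ≫ κ chart hU ht hm =
      κ chart hW ((𝒮.res hU hW b.le).map_mem ht) hm := by
  obtain ⟨g, rfl⟩ := b
  rw [κ, κ, ← Proj.awayι_comp_map_assoc (𝒮.res hU (hU.basicOpen g) (S.basicOpen_le g))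
    (𝒮.irrelevant_le_map U hU g) hm t ht]
  congr 1
  have e : Proj.map (𝒮.res hU (hU.basicOpen g) (S.basicOpen_le g)) (𝒮.irrelevant_le_map U hU g) =
      (chart (S.basicOpen g) (hU.basicOpen g)).inv ≫ P.homOfLE (p.preimage_mono (S.basicOpen_le g)) ≫
        (chart U hU).hom := by
    rw [hP.chart_res U hU g, Iso.inv_hom_id_assoc]
  rw [e]
  simp only [Category.assoc, Iso.hom_inv_id_assoc, Scheme.homOfLE_ι]

theorem κ_awayMap {m' : ℕ} {g x : 𝒮.presheaf.obj (op U)} (hg : g ∈ 𝒮.deg U hU m') (hx : x = t * g) :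
    Spec.map (CommRingCat.ofHom (awayMap (𝒮.deg U hU) hg hx)) ≫ κ chart hU ht hm =
      κ chart hU (hx ▸ SetLike.mul_mem_graded ht hg) (hm.trans_le (m.le_add_right m')) := by
  rw [κ, κ, Proj.SpecMap_awayMap_awayι_assoc]

theorem κ_comp (hP : RelProj.IsRelProj 𝒮 p chart) : κ chart hU ht hm ≫ p =
    Spec.map (𝒮.strZero U hU ≫ CommRingCat.ofHom (fromZeroRingHom (𝒮.deg U hU) (Submonoid.powers t))) ≫
      hU.fromSpec := by
  rw [κ, Category.assoc, Category.assoc, ← hP.chart_over U hU, Iso.inv_hom_id_assoc, Spec.map_comp,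
    Category.assoc, ← Proj.awayι_toSpecZero_assoc (𝒮.deg U hU) t ht hm]

theorem μ_base (hP : RelProj.IsRelProj 𝒮 p chart) (r : Γ(S, U)) :
    μ chart hU ht hm (p.appLE U (Po chart U hU t) (Po_le chart hU t) r) =
      fromZeroRingHom (𝒮.deg U hU) (Submonoid.powers t) ((𝒮.strZero U hU).hom r) := by
  let ψ := 𝒮.strZero U hU ≫ CommRingCat.ofHom (fromZeroRingHom (𝒮.deg U hU) (Submonoid.powers t))
  have hle : (⊤ : (Spec (CommRingCat.of (Away (𝒮.deg U hU) t))).Opens) ≤ (Spec.map ψ ≫ hU.fromSpec) ⁻¹ᵁ U :=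
    fun x _ => by rw [Scheme.Hom.comp_preimage, hU.fromSpec_preimage_self]; trivial
  have e1 : p.appLE U (Po chart U hU t) (Po_le chart hU t) ≫
      (κ chart hU ht hm).appLE _ ⊤ (top_le_preimage chart hU ht hm) = (Spec.map ψ ≫ hU.fromSpec).appLE U ⊤ hle := by
    rw [Scheme.Hom.appLE_comp_appLE]
    simp only [κ_comp chart hU ht hm hP, ψ]
  have e2 : (Spec.map ψ ≫ hU.fromSpec).appLE U ⊤ hle =
      (Scheme.ΓSpecIso Γ(S, U)).inv ≫ (Spec.map ψ).appTop := by
    have h1 : (⊤ : (Spec Γ(S, U)).Opens) ≤ hU.fromSpec ⁻¹ᵁ U := hU.fromSpec_preimage_self.ge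
    have h2 : hU.fromSpec.appLE U ⊤ h1 = (Scheme.ΓSpecIso Γ(S, U)).inv := by
      rw [Scheme.Hom.appLE, hU.fromSpec_app_self, Category.assoc, ← Functor.map_comp]
      exact (congrArg (fun w => (Scheme.ΓSpecIso Γ(S, U)).inv ≫ (Spec Γ(S, U)).presheaf.map w)
        (Subsingleton.elim _ (𝟙 _))).trans (by rw [CategoryTheory.Functor.map_id, Category.comp_id])
    rw [← h2, show (Spec.map ψ).appTop = (Spec.map ψ).appLE ⊤ ⊤ le_rfl from Scheme.Hom.app_eq_appLE _,
      Scheme.Hom.appLE_comp_appLE]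
  show ((p.appLE U _ _ ≫ (κ chart hU ht hm).appLE _ ⊤ _) ≫ (Scheme.ΓSpecIso _).hom) r = _
  rw [e1, e2, Category.assoc, Scheme.ΓSpecIso_naturality, Iso.inv_hom_id_assoc]
  rfl

end Groth.Agent.Lib.PProj.FromProj
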