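import Groth.Agent.Lib.PProj.QC

/-!
# The grading of the algebra of coordinate data
-/

noncomputable section

universe u

open CategoryTheory AlgebraicGeometry TopologicalSpace MvPolynomial Opposite

namespace Groth.Agent.Lib.PProj.PData

variable {X S : Scheme.{u}} {f : X ⟶ S} (D : PData f)

/-- The degree-`d` part. -/
def deg (W : S.Opens) (d : ℕ) : AddSubgroup (D.sect W) where
  carrier := {s | ∀ a e, e ≠ d → PowerSeries.coeff e ((s : Amb f D.P W) a) = 0}
  zero_mem' := fun a e _ => by simp
  add_mem' {s t} hs ht a e he := by simp [hs a e he, ht a e he]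
  neg_mem' {s} hs a e he := by simp [hs a e he]

theorem strS_mem_deg (W : S.Opens) (r : Γ(S, W)) : D.strS W r ∈ D.deg W 0 := fun a e he => by
  rw [strS_coe, coeff_strA, if_neg he]

theorem sres_mem_deg {W W' : S.Opens} (h : W' ≤ W) {d : ℕ} {s : D.sect W} (hs : s ∈ D.deg W d) :
    D.sres h s ∈ D.deg W' d := fun a e he => by
  rw [sres_coe, coeff_ares, hs a e he, map_zero]

instance gradedMonoid (W : S.Opens) : SetLike.GradedMonoid (D.deg W) where
  one_mem a e he := by simp [PowerSeries.coeff_one, he]
  mul_mem d d' s t hs ht a e he := by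
    rw [Subring.coe_mul, Pi.mul_apply, PowerSeries.coeff_mul]
    refine Finset.sum_eq_zero fun x hx => ?_
    rw [Finset.HasAntidiagonal.mem_antidiagonal] at hx
    by_cases h1 : x.1 = d
    · rw [ht a x.2 (by omega), mul_zero]
    · rw [hs a x.1 h1, zero_mul]

theorem deg_ext {W : S.Opens} {d : ℕ} {s t : D.sect W} (hs : s ∈ D.deg W d) (ht : t ∈ D.deg W d)
    (h : ∀ a, PowerSeries.coeff d (s.1 a) = PowerSeries.coeff d (t.1 a)) : s = t :=
  Subtype.ext (amb_ext fun a e => by
    by_cases he : e = d
    · exact he ▸ h a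
    · rw [hs a e he, ht a e he])

/-- The homogeneous component of an element of the ambient ring. -/
def compA {W : S.Opens} (d : ℕ) (s : Amb f D.P W) : Amb f D.P W :=
  fun a => PowerSeries.monomial d (PowerSeries.coeff d (s a))

theorem coeff_compA {W : S.Opens} (d : ℕ) (s : Amb f D.P W) (a : D.I) (e : ℕ) :
    PowerSeries.coeff e (D.compA d s a) = if e = d then PowerSeries.coeff d (s a) else 0 :=
  PowerSeries.coeff_monomial _ _ _

theorem compA_ev {W : S.Opens} {n : ℕ} (v : Fin n → Vec f D.P W) (d : ℕ) (p : MvPolynomial (Fin n) Γ(S, W)) :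
    ev W v (homogeneousComponent d p) = D.compA d (ev W v p) := amb_ext fun a e => by
  rw [coeff_ev, coeff_compA, coeff_ev, homogeneousComponent_of_mem (homogeneousComponent_mem d p)]
  split_ifs <;> simp

theorem compA_mem {W : S.Opens} (d : ℕ) {s : Amb f D.P W} (hs : s ∈ D.sect W) : D.compA d s ∈ D.sect W := by
  intro x hx
  obtain ⟨β, g, hxg, hle, p, hp⟩ := hs x hx
  refine ⟨β, g, hxg, hle, homogeneousComponent d p, ?_⟩
  rw [compA_ev, hp]
  exact amb_ext fun a e => by
    rw [coeff_compA, coeff_ares, coeff_ares, coeff_compA]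
    split_ifs <;> simp

/-- The homogeneous component of a section. -/
def comp {W : S.Opens} (d : ℕ) (s : D.sect W) : D.sect W := ⟨D.compA d s.1, D.compA_mem d s.2⟩

theorem coeff_comp {W : S.Opens} (d : ℕ) (s : D.sect W) (a : D.I) (e : ℕ) :
    PowerSeries.coeff e ((D.comp d s).1 a) = if e = d then PowerSeries.coeff d (s.1 a) else 0 :=
  D.coeff_compA d s.1 a e

theorem comp_mem {W : S.Opens} (d : ℕ) (s : D.sect W) : D.comp d s ∈ D.deg W d := fun a e he => by
  rw [coeff_comp, if_neg he]

theorem comp_eq {W : S.Opens} {d : ℕ} {s : D.sect W} (hs : s ∈ D.deg W d) : D.comp d s = s :=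
  D.deg_ext (D.comp_mem d s) hs fun a => by rw [coeff_comp, if_pos rfl]

theorem comp_sres {W W' : S.Opens} (h : W' ≤ W) (d : ℕ) (s : D.sect W) :
    D.comp d (D.sres h s) = D.sres h (D.comp d s) :=
  D.deg_ext (D.comp_mem d _) (D.sres_mem_deg h (D.comp_mem d s)) fun a => by
    rw [coeff_comp, if_pos rfl, sres_coe, sres_coe, coeff_ares, coeff_ares, coeff_comp, if_pos rfl]

theorem comp_strS_mul {W : S.Opens} (d : ℕ) (r : Γ(S, W)) (s : D.sect W) :
    D.comp d (D.strS W r * s) = D.strS W r * D.comp d s := by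
  refine Subtype.ext (amb_ext fun a e => ?_)
  show _ = PowerSeries.coeff e ((strA (f := f) (P := D.P) W r * (D.comp d s).1) a)
  rw [coeff_comp, coeff_strA_mul, coeff_comp]
  split_ifs
  · exact coeff_strA_mul r s.1 a d
  · rw [mul_zero]

theorem exists_bound {U : S.Opens} (hU : IsAffineOpen U) (s : D.sect U) :
    ∃ n, ∀ a e, n ≤ e → PowerSeries.coeff e (s.1 a) = 0 := by
  classical
  obtain ⟨M, g, β, g', he, hrep, hcov⟩ := D.exists_adapted hU s
  choose hle p hp using hrep
  refine ⟨Finset.univ.sup fun k => (p k).totalDegree + 1, fun a e hn => ?_⟩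
  refine eq_of_cover (B := fun k => piece f D.P a (S.basicOpen (g' k))) (fun k => piece_mono a (hle k))
    (D.piece_le_iSup (hcov.trans (iSup_mono fun k => (he k).le)) a) fun k => ?_
  have e' := congrArg (fun z => PowerSeries.coeff e (z a)) (hp k)
  simp only [coeff_ares] at e'
  rw [← e', map_zero, coeff_ev_eq_zero]
  exact lt_of_lt_of_le (Nat.lt_succ_self _)
    ((Finset.le_sup (f := fun k => (p k).totalDegree + 1) (Finset.mem_univ k)).trans hn)

theorem isInternal {U : S.Opens} (hU : IsAffineOpen U) : DirectSum.IsInternal (D.deg U) := by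
  classical
  have key : ∀ (z : DirectSum ℕ fun d => D.deg U d) (a : D.I) (e : ℕ),
      PowerSeries.coeff e ((DirectSum.coeAddMonoidHom (D.deg U) z : Amb f D.P U) a) =
        PowerSeries.coeff e (((z e : D.sect U) : Amb f D.P U) a) := by
    intro z a e
    induction z using DirectSum.induction_on with
    | zero => simp
    | of k b =>
      rw [DirectSum.coeAddMonoidHom_of]
      by_cases hk : k = e
      · subst hk; rw [DirectSum.of_eq_same]
      · rw [DirectSum.of_eq_of_ne _ _ _ (Ne.symm hk), b.2 a e (Ne.symm hk)]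
        simp
    | add b c hb hc =>
      simp only [map_add, DirectSum.add_apply, AddMemClass.coe_add, Subring.coe_add, Pi.add_apply, hb, hc]
  refine ⟨fun z z' h => ?_, fun s => ?_⟩
  · refine DFinsupp.ext fun e => Subtype.ext (D.deg_ext (z e).2 (z' e).2 fun a => ?_)
    rw [← key z a e, ← key z' a e, h]
  · obtain ⟨n, hn⟩ := D.exists_bound hU s
    refine ⟨∑ k ∈ Finset.range n, DirectSum.of (fun d => D.deg U d) k ⟨_, D.comp_mem k s⟩, ?_⟩
    simp only [map_sum, DirectSum.coeAddMonoidHom_of]
    refine Subtype.ext (amb_ext fun a e => ?_)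
    rw [AddSubmonoidClass.coe_finsetSum, Finset.sum_apply, map_sum]
    simp only [coeff_comp]
    rw [Finset.sum_ite_eq]
    split_ifs with h
    · rfl
    · exact (hn a e (by simpa using h)).symm

/-- The graded algebra. -/
def alg : RelProj.QCGrAlg S where
  presheaf := D.presheaf
  isSheaf := D.isSheaf_presheaf
  str := D.str
  isQC := D.isQC
  deg U _ := D.deg U
  graded U hU :=
    { D.gradedMonoid U, (D.isInternal hU).chooseDecomposition (D.deg U) with }
  map_mem {U V} _ _ i {d x} hx := D.sres_mem_deg i hx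
  str_mem U _ r := D.strS_mem_deg U r

/-- The grading over an affine open, remembering that it is affine. -/
def degA (U : S.Opens) (_ : IsAffineOpen U) : ℕ → AddSubgroup (D.sect U) := D.deg U

instance gradedRing_degA (U : S.Opens) (hU : IsAffineOpen U) : GradedRing (D.degA U hU) := D.alg.graded U hU

end Groth.Agent.Lib.PProj.PData
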