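import Groth.Agent.Lib.PProj.OfProper
import Groth.Agent.Lib.CohBasics.Affine
import Groth.Agent.Lib.QCoh.Pushforward

/-!
# A proper morphism with very ample module whose direct image has finite type is projective
-/

noncomputable section

universe u

open CategoryTheory CategoryTheory.Limits AlgebraicGeometry TopologicalSpace Opposite

namespace Groth.Agent.Lib.PProj

open TensorMod TensorMod.Dual TensorMod.Gen Span

variable {X S : Scheme.{u}} (f : X ⟶ S) [IsProper f]

theorem exists_gens_of_isFT {M : X.Modules} [M.IsQuasicoherent]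
    (hft : CohB1.IsFT ((Scheme.Modules.pushforward f).obj M)) {U : S.Opens} (hU : IsAffineOpen U) :
    ∃ (n : ℕ) (G : Fin n → Γ(M, f ⁻¹ᵁ U)), ∀ (g : Γ(S, U)) (m : Γ(M, f ⁻¹ᵁ S.basicOpen g)),
      InSpan G (S.basicOpen_le g) m := by
  haveI : ((Scheme.Modules.pushforward f).obj M).IsQuasicoherent := QCoh.Pushforward.isQCoh_pushforward f (M := M)
  haveI : SheafOfModules.IsFiniteType (R := S.ringCatSheaf) ((Scheme.Modules.pushforward f).obj M) := hft
  obtain ⟨n, G, hG⟩ := @Module.Finite.exists_fin Γ(S, U) Γ((Scheme.Modules.pushforward f).obj M, U) _ _ _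
    (CohBasics.Affine.finite_sections (M := (Scheme.Modules.pushforward f).obj M) hU)
  refine ⟨n, G, fun g m => ?_⟩
  obtain ⟨e, x, hx⟩ := (localizes hU (f.app U g)).ext'.exists_of_eq (Scheme.preimage_basicOpen f g)
    (f.preimage_mono (S.basicOpen_le g)) m
  have hx' : rM f M (S.basicOpen_le g) x = f.app (S.basicOpen g) (rX (S.basicOpen_le g) g) ^ e • m := by
    rw [← resR_app]
    exact hx
  let x' : Γ((Scheme.Modules.pushforward f).obj M, U) := x
  have hspan : x' ∈ Submodule.span Γ(S, U) (Set.range G) := hG.ge Submodule.mem_top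
  obtain ⟨c, hc⟩ := (Submodule.mem_span_range_iff_exists_fun Γ(S, U)).1 hspan
  obtain ⟨v, hv⟩ : ∃ v : Γ(S, S.basicOpen g), v * rX (S.basicOpen_le g) g = 1 :=
    (S.toRingedSpace.isUnit_res_basicOpen g).exists_left_inv
  have h1 : InSpan (M := M) (f := f) G le_rfl x := ⟨c, by
    refine hc.symm.trans (Finset.sum_congr rfl fun k _ => ?_)
    rw [rM_self]
    rfl⟩
  have h2 := (h1.res (S.basicOpen_le g)).smul (v ^ e)
  have hve : v ^ e * rX (S.basicOpen_le g) g ^ e = 1 := by rw [← mul_pow, hv, one_pow]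
  rw [hx', ← map_pow, smul_smul, ← map_mul, hve, map_one, one_smul] at h2
  exact h2

theorem isProjective_of_isFT_pushforward (M : X.Modules) (hM : PicF.IsInvertible M)
    (hva : ∀ U : S.Opens, IsAffineOpen U →
      _root_.RelAmple.IsRelVeryAmplePn (f ∣_ U) (M.restrict (f ⁻¹ᵁ U).ι))
    (hft : CohB1.IsFT ((Scheme.Modules.pushforward f).obj M)) : RelProj.IsProjective f := by
  classical
  haveI : M.IsQuasicoherent := QCohInv.isQCoh_of_isInvertible hM
  choose P e hxP he using Gen.isInvertible_iff.1 hM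
  have hPc : ∀ x, ∃ a, x ∈ P a := fun x => ⟨x, hxP x⟩
  choose T m₀ hm₀ using fun V : S.affineOpens => exists_sys_of_veryAmple f M he hPc V.2 (hva V.1 V.2)
  choose n G hG using fun V : S.affineOpens => exists_gens_of_isFT f hft V.2
  have hext : ∀ V : S.affineOpens, ∃ T' : Sys f P V.1, ∃ e' : T'.n = (T V).n + n V, ∀ j,
      T'.c j = cv f M he (Fin.append (m₀ V) (G V) (Fin.cast e' j)) :=
    fun V => (T V).exists_extend hPc (fun j => cv f M he (Fin.append (m₀ V) (G V) j)) (Fin.castAdd (n V)) (fun j => by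
      show cv f M he (Fin.append (m₀ V) (G V) (Fin.castAdd (n V) j)) = _
      rw [Fin.append_left, hm₀])
      fun j k => prop2_cv f M he _ _
  choose T' hn hT' using hext
  refine PData.isProjective (f := f) {
    I := X
    P := P
    P_cover := hPc
    J := S.affineOpens
    U := fun V => V.1
    affine := fun V => V.2
    cover := fun y => by
      obtain ⟨V, hV, hyV, -⟩ := exists_isAffineOpen_mem_and_subset (X := S) (x := y) (U := ⊤) trivial
      exact ⟨⟨V, hV⟩, hyV⟩
    sys := T'
    compat := fun β γ j y hy hy' => ?_ }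
  obtain ⟨g, hgle, hyg⟩ := β.2.exists_basicOpen_le (V := γ.1) ⟨y, hy'⟩ hy
  have hspan := (hG β g (rM f M hgle (Fin.append (m₀ γ) (G γ) (Fin.cast (hn γ) j)))).of_subfamily
    (G' := Fin.append (m₀ β) (G β)) (Fin.natAdd (T β).n) fun k => Fin.append_right _ _ k
  obtain ⟨l, hl⟩ := hspan
  refine ⟨S.basicOpen g, S.basicOpen_le g, hgle, hyg, fun k => l (Fin.cast (hn β) k), ?_⟩
  have h1 := congrArg (cv f M he) hl
  rw [cv_sum] at h1
  simp only [hT']
  refine (vres_cv f M he _ _).symm.trans (h1.trans ?_)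
  funext a
  simp only [lin]
  refine (Equiv.sum_comp (finCongr (hn β)) _).symm.trans (Finset.sum_congr rfl fun k _ => ?_)
  exact congrArg (fun v : Vec f P (S.basicOpen g) => _ * v a) (vres_cv f M he (S.basicOpen_le g) _)

end Groth.Agent.Lib.PProj
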