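import Groth.Agent.Lib.PProj.Main

/-!
# Products of coordinate data

Coordinate data for `f₁ : A ⟶ S` and `f₂ : B ⟶ S` give, by multiplying the coordinates, coordinate data for
`F : Z ⟶ S` when `Z ⟶ A ×_S B` is a closed immersion.
-/

noncomputable section

universe u

open CategoryTheory CategoryTheory.Limits AlgebraicGeometry TopologicalSpace Opposite

namespace Groth.Agent.Lib.PProj

theorem Sys.u_self {X S : Scheme.{u}} {f : X ⟶ S} {I : Type u} {P : I → X.Opens} {U : S.Opens} (T : Sys f P U)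
    (hP : ∀ x, ∃ a, x ∈ P a) (j : Fin T.n) : T.u j j = 1 := by
  refine eq_of_cover (B := fun a => T.L j ⊓ P a) (fun a => inf_le_left) (fun x hx => ?_) fun a => ?_
  · obtain ⟨a, ha⟩ := hP x
    exact Opens.mem_iSup.2 ⟨a, hx, ha⟩
  · have h := T.rel' j j a
    rw [map_one]
    exact (T.isUnit_c j a).mul_right_cancel (h.symm.trans (one_mul _).symm)

variable {Z A B S : Scheme.{u}} (p : Z ⟶ A) (q : Z ⟶ B) (F : Z ⟶ S) {f₁ : A ⟶ S} {f₂ : B ⟶ S}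
  (h₁ : p ≫ f₁ = F) (h₂ : q ≫ f₂ = F)

/-- The pieces of the product. -/
def prodP {I₁ I₂ : Type u} (P₁ : I₁ → A.Opens) (P₂ : I₂ → B.Opens) : I₁ × I₂ → Z.Opens :=
  fun c => p ⁻¹ᵁ P₁ c.1 ⊓ q ⁻¹ᵁ P₂ c.2

variable {I₁ I₂ : Type u} {P₁ : I₁ → A.Opens} {P₂ : I₂ → B.Opens} {U : S.Opens}

include h₁ in
theorem prod_piece_le₁ (c : I₁ × I₂) : piece F (prodP p q P₁ P₂) c U ≤ p ⁻¹ᵁ piece f₁ P₁ c.1 U := by
  intro x hx
  refine ⟨hx.1.1, ?_⟩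
  have h := hx.2
  rw [← h₁, Scheme.Hom.comp_preimage] at h
  exact h

include h₂ in
theorem prod_piece_le₂ (c : I₁ × I₂) : piece F (prodP p q P₁ P₂) c U ≤ q ⁻¹ᵁ piece f₂ P₂ c.2 U := by
  intro x hx
  refine ⟨hx.1.2, ?_⟩
  have h := hx.2
  rw [← h₂, Scheme.Hom.comp_preimage] at h
  exact h

/-- The product of two vectors. -/
def prodVec (v : Vec f₁ P₁ U) (w : Vec f₂ P₂ U) : Vec F (prodP p q P₁ P₂) U := fun c =>
  p.appLE (piece f₁ P₁ c.1 U) _ (prod_piece_le₁ p q F h₁ c) (v c.1) *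
    q.appLE (piece f₂ P₂ c.2 U) _ (prod_piece_le₂ p q F h₂ c) (w c.2)

theorem prodVec_vres {U' : S.Opens} (h : U' ≤ U) (v : Vec f₁ P₁ U) (w : Vec f₂ P₂ U) :
    vres h (prodVec p q F h₁ h₂ v w) = prodVec p q F h₁ h₂ (vres h v) (vres h w) := funext fun c => by
  simp only [prodVec, vres_apply, map_mul, rX_appLE, appLE_rX]

theorem prodVec_lin {n₁ n₂ : ℕ} (l₁ : Fin n₁ → Γ(S, U)) (v₁ : Fin n₁ → Vec f₁ P₁ U) (l₂ : Fin n₂ → Γ(S, U))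
    (v₂ : Fin n₂ → Vec f₂ P₂ U) : prodVec p q F h₁ h₂ (lin l₁ v₁) (lin l₂ v₂) =
      lin (fun k => l₁ (finProdFinEquiv.symm k).1 * l₂ (finProdFinEquiv.symm k).2)
        (fun k => prodVec p q F h₁ h₂ (v₁ (finProdFinEquiv.symm k).1) (v₂ (finProdFinEquiv.symm k).2)) :=
  funext fun c => by
    simp only [prodVec, lin, map_sum, map_mul, Finset.sum_mul_sum]
    rw [← Finset.sum_product', Finset.univ_product_univ]
    refine (Equiv.sum_comp finProdFinEquiv.symm _).symm.trans (Finset.sum_congr rfl fun k _ => ?_)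
    simp only [base]
    rw [appLE_comp_apply, appLE_comp_apply, appLE_hom_congr h₁ _ _ _ inf_le_right,
      appLE_hom_congr h₂ _ _ _ inf_le_right]
    ring

variable (hk : IsClosedImmersion (pullback.lift p q (h₁.trans h₂.symm)))

/-- The product of two systems. -/
def Sys.prod (T₁ : Sys f₁ P₁ U) (T₂ : Sys f₂ P₂ U) (hU : IsAffineOpen U) (hP₁ : ∀ x, ∃ a, x ∈ P₁ a)
    (hP₂ : ∀ x, ∃ a, x ∈ P₂ a) : Sys F (prodP p q P₁ P₂) U where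
  n := T₁.n * T₂.n
  c j := prodVec p q F h₁ h₂ (T₁.c (finProdFinEquiv.symm j).1) (T₂.c (finProdFinEquiv.symm j).2)
  L j := p ⁻¹ᵁ T₁.L (finProdFinEquiv.symm j).1 ⊓ q ⁻¹ᵁ T₂.L (finProdFinEquiv.symm j).2
  L_le j := by
    intro x hx
    rw [← h₁, Scheme.Hom.comp_preimage]
    exact T₁.L_le _ hx.1
  affine j := (affine_and_gen p q f₁ f₂ (h₁.trans h₂.symm) hk (T₁.affine _) (T₂.affine _) hU (T₁.L_le _)
    (T₂.L_le _)).1
  cover x hx := by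
    have hx₁ : p x ∈ f₁ ⁻¹ᵁ U := by
      have h := hx
      rw [← h₁, Scheme.Hom.comp_preimage] at h
      exact h
    have hx₂ : q x ∈ f₂ ⁻¹ᵁ U := by
      have h := hx
      rw [← h₂, Scheme.Hom.comp_preimage] at h
      exact h
    obtain ⟨j, hj⟩ := Opens.mem_iSup.1 (T₁.cover hx₁)
    obtain ⟨k, hk⟩ := Opens.mem_iSup.1 (T₂.cover hx₂)
    refine Opens.mem_iSup.2 ⟨finProdFinEquiv (j, k), ?_⟩
    rw [Equiv.symm_apply_apply]
    exact ⟨hj, hk⟩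
  L_inf j c := by
    rw [prodVec, Scheme.basicOpen_mul, Scheme.basicOpen_appLE, Scheme.basicOpen_appLE, ← T₁.L_inf, ← T₂.L_inf]
    ext x
    constructor
    · rintro ⟨⟨hx₁, hx₂⟩, hc₁, hc₂⟩
      have hU' : x ∈ F ⁻¹ᵁ U := by
        rw [← h₁, Scheme.Hom.comp_preimage]
        exact T₁.L_le _ hx₁
      exact ⟨⟨⟨⟨hc₁, hc₂⟩, hU'⟩, hx₁, hc₁⟩, ⟨⟨hc₁, hc₂⟩, hU'⟩, hx₂, hc₂⟩
    · rintro ⟨⟨_, hx₁, hc₁⟩, _, hx₂, hc₂⟩
      exact ⟨⟨hx₁, hx₂⟩, hc₁, hc₂⟩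
  u j k := p.appLE _ _ inf_le_left (T₁.u (finProdFinEquiv.symm j).1 (finProdFinEquiv.symm k).1) *
    q.appLE _ _ inf_le_right (T₂.u (finProdFinEquiv.symm j).2 (finProdFinEquiv.symm k).2)
  rel j k c := by
    obtain ⟨j₁, j₂⟩ := finProdFinEquiv.symm j
    obtain ⟨k₁, k₂⟩ := finProdFinEquiv.symm k
    have hle₁ : p ⁻¹ᵁ T₁.L j₁ ⊓ q ⁻¹ᵁ T₂.L j₂ ⊓ prodP p q P₁ P₂ c ≤ p ⁻¹ᵁ (T₁.L j₁ ⊓ P₁ c.1) :=
      fun x hx => ⟨hx.1.1, hx.2.1⟩
    have hle₂ : p ⁻¹ᵁ T₁.L j₁ ⊓ q ⁻¹ᵁ T₂.L j₂ ⊓ prodP p q P₁ P₂ c ≤ q ⁻¹ᵁ (T₂.L j₂ ⊓ P₂ c.2) :=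
      fun x hx => ⟨hx.1.2, hx.2.2⟩
    have e₁ := congrArg (p.appLE (T₁.L j₁ ⊓ P₁ c.1) _ hle₁) (T₁.rel' j₁ k₁ c.1)
    have e₂ := congrArg (q.appLE (T₂.L j₂ ⊓ P₂ c.2) _ hle₂) (T₂.rel' j₂ k₂ c.2)
    simp only [map_mul, appLE_rX] at e₁ e₂
    simp only [prodVec, map_mul, rX_appLE]
    rw [e₁, e₂]
    ring
  gen j := by
    set W := p ⁻¹ᵁ T₁.L (finProdFinEquiv.symm j).1 ⊓ q ⁻¹ᵁ T₂.L (finProdFinEquiv.symm j).2 with hW
    set R0 := Subring.closure (Set.range (F.appLE U W _) ∪ Set.range fun k : Fin (T₁.n * T₂.n) =>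
      p.appLE _ W inf_le_left (T₁.u (finProdFinEquiv.symm j).1 (finProdFinEquiv.symm k).1) *
        q.appLE _ W inf_le_right (T₂.u (finProdFinEquiv.symm j).2 (finProdFinEquiv.symm k).2)) with hR0
    refine eq_top_iff.2 ((affine_and_gen p q f₁ f₂ (h₁.trans h₂.symm) hk (T₁.affine _) (T₂.affine _) hU
      (T₁.L_le _) (T₂.L_le _)).2.ge.trans (Subring.closure_le.2 ?_))
    rintro _ (⟨w, rfl⟩ | ⟨w, rfl⟩)
    · have hw := (T₁.gen (finProdFinEquiv.symm j).1).ge (Subring.mem_top w)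
      refine (Subring.closure_le (t := R0.comap (p.appLE _ W inf_le_left).hom)).2 ?_ hw
      rintro _ (⟨r, rfl⟩ | ⟨k, rfl⟩)
      · refine Subring.subset_closure (Or.inl ⟨r, ?_⟩)
        change _ = p.appLE _ W inf_le_left (f₁.appLE U _ _ r)
        rw [appLE_comp_apply]
        exact appLE_hom_congr h₁.symm _ _ _ _ _
      · refine Subring.subset_closure (Or.inr ⟨finProdFinEquiv (k, (finProdFinEquiv.symm j).2), ?_⟩)
        simp only [Equiv.symm_apply_apply, T₂.u_self hP₂, map_one, mul_one]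
    · have hw := (T₂.gen (finProdFinEquiv.symm j).2).ge (Subring.mem_top w)
      refine (Subring.closure_le (t := R0.comap (q.appLE _ W inf_le_right).hom)).2 ?_ hw
      rintro _ (⟨r, rfl⟩ | ⟨k, rfl⟩)
      · refine Subring.subset_closure (Or.inl ⟨r, ?_⟩)
        change _ = q.appLE _ W inf_le_right (f₂.appLE U _ _ r)
        rw [appLE_comp_apply]
        exact appLE_hom_congr h₂.symm _ _ _ _ _
      · refine Subring.subset_closure (Or.inr ⟨finProdFinEquiv ((finProdFinEquiv.symm j).1, k), ?_⟩)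
        simp only [Equiv.symm_apply_apply, T₁.u_self hP₁, map_one, one_mul]

theorem pullVec_id {X : Scheme.{u}} {f : X ⟶ S} {I : Type u} {P : I → X.Opens} {V : S.Opens} (hcomm : 𝟙 X ≫ f = f ≫ 𝟙 S)
    (h : V ≤ 𝟙 S ⁻¹ᵁ U) (h' : V ≤ U) (v : Vec f P U) :
    pullVec f (𝟙 X) (𝟙 S) hcomm h v = vres h' v := funext fun a => by
  simp only [pullVec, vres_apply, rX, Scheme.Hom.appLE, Scheme.Hom.id_app]
  rfl

include h₁ h₂ hk in
/-- The product of two coordinate data. -/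
theorem PData.prod (D₁ : PData f₁) (D₂ : PData f₂) : Nonempty (PData F) := by
  have hc₁ : 𝟙 A ≫ f₁ = f₁ ≫ 𝟙 S := by simp
  have hc₂ : 𝟙 B ≫ f₂ = f₂ ≫ 𝟙 S := by simp
  have hk₁ : IsClosedImmersion (pullback.lift (𝟙 A) f₁ hc₁) := by
    haveI : IsClosedImmersion (pullback.lift (𝟙 A) f₁ hc₁ ≫ pullback.fst f₁ (𝟙 S)) := by
      rw [pullback.lift_fst]; first | done | infer_instance
    exact IsClosedImmersion.of_comp _ (pullback.fst f₁ (𝟙 S))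
  have hk₂ : IsClosedImmersion (pullback.lift (𝟙 B) f₂ hc₂) := by
    haveI : IsClosedImmersion (pullback.lift (𝟙 B) f₂ hc₂ ≫ pullback.fst f₂ (𝟙 S)) := by
      rw [pullback.lift_fst]; first | done | infer_instance
    exact IsClosedImmersion.of_comp _ (pullback.fst f₂ (𝟙 S))
  let T₁ : ∀ (β : D₁.J) {V : S.Opens}, IsAffineOpen V → V ≤ D₁.U β → Sys f₁ D₁.P V := fun β _ hV hle =>
    (D₁.sys β).pull f₁ (𝟙 A) (𝟙 S) hc₁ (D₁.affine β) hk₁ hV hle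
  let T₂ : ∀ (β : D₂.J) {V : S.Opens}, IsAffineOpen V → V ≤ D₂.U β → Sys f₂ D₂.P V := fun β _ hV hle =>
    (D₂.sys β).pull f₂ (𝟙 B) (𝟙 S) hc₂ (D₂.affine β) hk₂ hV hle
  refine ⟨{
    I := D₁.I × D₂.I
    P := prodP p q D₁.P D₂.P
    P_cover := fun x => ?_
    J := {r : (D₁.J × D₂.J) × S.Opens // IsAffineOpen r.2 ∧ r.2 ≤ D₁.U r.1.1 ∧ r.2 ≤ D₂.U r.1.2}
    U := fun r => r.1.2
    affine := fun r => r.2.1
    cover := fun y => ?_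
    sys := fun r => (T₁ r.1.1.1 r.2.1 r.2.2.1).prod p q F h₁ h₂ hk (T₂ r.1.1.2 r.2.1 r.2.2.2) r.2.1
      D₁.P_cover D₂.P_cover
    compat := fun r r' j y hy hy' => ?_ }⟩
  · obtain ⟨a, ha⟩ := D₁.P_cover (p x)
    obtain ⟨b, hb⟩ := D₂.P_cover (q x)
    exact ⟨(a, b), ha, hb⟩
  · obtain ⟨β, hβ⟩ := D₁.cover y
    obtain ⟨γ, hγ⟩ := D₂.cover y
    obtain ⟨V, hV, hyV, hle⟩ :=
      exists_isAffineOpen_mem_and_subset (X := S) (x := y) (U := D₁.U β ⊓ D₂.U γ) ⟨hβ, hγ⟩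
    exact ⟨⟨((β, γ), V), hV, hle.trans inf_le_left, hle.trans inf_le_right⟩, hyV⟩
  · obtain ⟨V₁, a₁, b₁, hy₁, l₁, hl₁⟩ := D₁.compat r.1.1.1 r'.1.1.1 (finProdFinEquiv.symm j).1 y
      (r.2.2.1 hy) (r'.2.2.1 hy')
    obtain ⟨V₂, a₂, b₂, hy₂, l₂, hl₂⟩ := D₂.compat r.1.1.2 r'.1.1.2 (finProdFinEquiv.symm j).2 y
      (r.2.2.2 hy) (r'.2.2.2 hy')
    have hW₁ : r.1.2 ⊓ r'.1.2 ⊓ (V₁ ⊓ V₂) ≤ V₁ := inf_le_right.trans inf_le_left
    have hW₂ : r.1.2 ⊓ r'.1.2 ⊓ (V₁ ⊓ V₂) ≤ V₂ := inf_le_right.trans inf_le_right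
    refine ⟨r.1.2 ⊓ r'.1.2 ⊓ (V₁ ⊓ V₂), inf_le_left.trans inf_le_left, inf_le_left.trans inf_le_right,
      ⟨⟨hy, hy'⟩, hy₁, hy₂⟩, fun k => rX hW₁ (l₁ (finProdFinEquiv.symm k).1) *
        rX hW₂ (l₂ (finProdFinEquiv.symm k).2), ?_⟩
    dsimp only [Sys.prod, T₁, T₂, Sys.pull]
    simp only [pullVec_id hc₁ _ (r'.2.2.1), pullVec_id hc₂ _ (r'.2.2.2), pullVec_id hc₁ _ (r.2.2.1),
      pullVec_id hc₂ _ (r.2.2.2), prodVec_vres, vres_vres]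
    have e₁ := congrArg (vres hW₁) hl₁
    have e₂ := congrArg (vres hW₂) hl₂
    simp only [vres_vres, vres_lin] at e₁ e₂
    exact (congrArg₂ (prodVec p q F h₁ h₂) e₁ e₂).trans (prodVec_lin p q F h₁ h₂ _ _ _ _)

theorem Main.isProjective_of_closedImmersion_prod {hf₁ : RelProj.IsProjective f₁} {hf₂ : RelProj.IsProjective f₂}
    (h₁ : p ≫ f₁ = F) (h₂ : q ≫ f₂ = F) (hk : IsClosedImmersion (pullback.lift p q (h₁.trans h₂.symm))) :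
    RelProj.IsProjective F := by
  obtain ⟨D₁⟩ := Main.nonempty_pdata hf₁
  obtain ⟨D₂⟩ := Main.nonempty_pdata hf₂
  obtain ⟨D⟩ := D₁.prod p q F h₁ h₂ hk D₂
  exact D.isProjective

end Groth.Agent.Lib.PProj
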