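import Groth.Agent.Lib.PProj.Alg

/-!
# Quasi-coherence of the sheaf of rings of coordinate data
-/

noncomputable section

universe u

open CategoryTheory AlgebraicGeometry TopologicalSpace MvPolynomial Opposite

namespace Groth.Agent.Lib.PProj

variable {X S : Scheme.{u}} {f : X ⟶ S}

theorem exists_polyRes_eq {n : ℕ} {U : S.Opens} (hU : IsAffineOpen U) (r : Γ(S, U))
    (q : MvPolynomial (Fin n) Γ(S, S.basicOpen r)) :
    ∃ (m : ℕ) (p : MvPolynomial (Fin n) Γ(S, U)),
      polyRes (S.basicOpen_le r) p = polyRes (S.basicOpen_le r) (C r ^ m) * q := by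
  let := (rX (S.basicOpen_le r)).toAlgebra
  haveI : IsLocalization.Away r Γ(S, S.basicOpen r) := hU.isLocalization_basicOpen r
  induction q using MvPolynomial.induction_on with
  | C a =>
    obtain ⟨m, b, hb⟩ := IsLocalization.Away.surj r a
    refine ⟨m, C b, ?_⟩
    simp only [polyRes, map_pow, MvPolynomial.map_C]
    rw [← map_pow, ← map_mul]
    exact congrArg C (hb.symm.trans (mul_comm _ _))
  | add p q hp hq =>
    obtain ⟨m, a, ha⟩ := hp
    obtain ⟨m', b, hb⟩ := hq
    refine ⟨m + m', C r ^ m' * a + C r ^ m * b, ?_⟩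
    simp only [map_add, map_mul, ha, hb, map_pow, pow_add]
    ring
  | mul_X p j hp =>
    obtain ⟨m, a, ha⟩ := hp
    refine ⟨m, a * MvPolynomial.X j, ?_⟩
    rw [map_mul, ha]
    simp only [polyRes, MvPolynomial.map_X]
    ring

namespace PData

variable (D : PData f)

theorem mem_of_local {U : S.Opens} (hU : IsAffineOpen U) (T : AddSubgroup (D.sect U))
    (hT : ∀ (a : Γ(S, U)), ∀ t ∈ T, D.strS U a * t ∈ T) {s : D.sect U}
    (h : ∀ x ∈ U, ∃ r : Γ(S, U), x ∈ S.basicOpen r ∧ ∃ m : ℕ, D.strS U r ^ m * s ∈ T) : s ∈ T := by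
  let J : Ideal Γ(S, U) :=
    { carrier := {a | D.strS U a * s ∈ T}
      zero_mem' := by simp
      add_mem' := fun {a b} ha hb => by
        show D.strS U (a + b) * s ∈ T
        rw [map_add, add_mul]; exact add_mem ha hb
      smul_mem' := fun c a ha => by
        show D.strS U (c • a) * s ∈ T
        rw [smul_eq_mul, map_mul, mul_assoc]; exact hT c _ ha }
  suffices hJ : J = ⊤ by
    have h1 : D.strS U 1 * s ∈ T := (J.eq_top_iff_one).1 hJ
    simpa using h1
  by_contra hne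
  obtain ⟨M, hM, hJM⟩ := J.exists_le_maximal hne
  let Q : PrimeSpectrum Γ(S, U) := ⟨M, hM.isPrime⟩
  obtain ⟨r, hQr, m, hm⟩ := h (hU.fromSpec Q) (hU.range_fromSpec.le ⟨Q, rfl⟩)
  have hP : Q ∈ hU.fromSpec ⁻¹ᵁ S.basicOpen r := hQr
  rw [hU.fromSpec_preimage_basicOpen] at hP
  refine hP (hM.isPrime.mem_of_pow_mem m (hJM ?_))
  show D.strS U (r ^ m) * s ∈ T
  rwa [map_pow]

theorem exists_adapted_pt {U : S.Opens} (hU : IsAffineOpen U) (s : D.sect U) {x : S} (hx : x ∈ U) :
    ∃ (g : Γ(S, U)) (β : D.J) (g' : Γ(S, D.U β)), x ∈ S.basicOpen g ∧ S.basicOpen g = S.basicOpen g' ∧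
      D.IsRep s.1 β g' := by
  obtain ⟨β, g₁, hxg₁, hrep⟩ := s.2 x hx
  obtain ⟨g, g₂, hgg, hxg⟩ :=
    exists_basicOpen_le_affine_inter hU ((D.affine β).basicOpen g₁) x ⟨hx, hxg₁⟩
  obtain ⟨g', hg'⟩ := (D.affine β).basicOpen_basicOpen_is_basicOpen g₁ g₂
  exact ⟨g, β, g', hxg, hgg.trans hg'.symm, hrep.res D (hg'.le.trans (S.basicOpen_le g₂))⟩

theorem exists_adapted {U : S.Opens} (hU : IsAffineOpen U) (s : D.sect U) :
    ∃ (m : ℕ) (g : Fin m → Γ(S, U)) (β : Fin m → D.J) (g' : ∀ k, Γ(S, D.U (β k))),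
      (∀ k, S.basicOpen (g k) = S.basicOpen (g' k)) ∧ (∀ k, D.IsRep s.1 (β k) (g' k)) ∧
        U ≤ ⨆ k, S.basicOpen (g k) := by
  classical
  choose g β g' hx he hr using fun x : U => D.exists_adapted_pt hU s x.2
  obtain ⟨F, hF⟩ := hU.isCompact.elim_finite_subcover (fun x => (S.basicOpen (g x) : Set S))
    (fun x => (S.basicOpen (g x)).2) fun x hx' => Set.mem_iUnion.2 ⟨⟨x, hx'⟩, hx ⟨x, hx'⟩⟩
  refine ⟨F.card, fun k => g (F.equivFin.symm k).1, fun k => β (F.equivFin.symm k).1,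
    fun k => g' (F.equivFin.symm k).1, fun k => he _, fun k => hr _, fun x hx' => ?_⟩
  obtain ⟨y, hy, hxy⟩ := Set.mem_iUnion₂.1 (hF hx')
  exact Opens.mem_iSup.2 ⟨F.equivFin ⟨y, hy⟩, by simpa using hxy⟩

/-- A section that vanishes on `D(r)` is killed by a power of `r`. -/
theorem exists_pow_kill {U : S.Opens} (hU : IsAffineOpen U) (r : Γ(S, U)) (s : D.sect U)
    (h : D.sres (S.basicOpen_le r) s = 0) : ∃ m : ℕ, D.strS U r ^ m * s = 0 := by
  classical
  obtain ⟨M, g, β, g', he, hrep, hcov⟩ := D.exists_adapted hU s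
  have key : ∀ k, ∃ (hle : S.basicOpen (g' k) ≤ U) (m : ℕ), D.sres hle (D.strS U r ^ m * s) = 0 := by
    intro k
    obtain ⟨hle, p, hp⟩ := hrep k
    refine ⟨hle, ?_⟩
    let T := (D.sys (β k)).basic (D.affine (β k)) (g' k)
    have hsub : S.basicOpen (rX hle r) ≤ S.basicOpen r := (basicOpen_rX hle r).le.trans inf_le_right
    obtain ⟨m, hm⟩ := T.exists_pow_kill D.P_cover (rX hle r) p (by
      have e := congrArg (ares hsub) (congrArg Subtype.val h)
      simp only [sres_coe, ares_ares] at e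
      change ares (S.basicOpen_le (rX hle r))
        (ev (S.basicOpen (g' k)) (fun k' => vres (S.basicOpen_le (g' k)) ((D.sys (β k)).c k')) p) = 0
      rw [hp, ares_ares, e]
      exact map_zero _)
    refine ⟨m, Subtype.ext ?_⟩
    show ares hle (strA U r ^ m * s.1) = 0
    rw [map_mul, map_pow, ares_strA, ← hp]
    exact hm
  choose hle m hm using key
  refine ⟨Finset.univ.sup m, D.ext_cover hle (hcov.trans (iSup_mono fun k => (he k).le)) fun k => ?_⟩
  obtain ⟨e, he'⟩ := Nat.exists_eq_add_of_le (Finset.le_sup (f := m) (Finset.mem_univ k))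
  rw [he', add_comm, pow_add, mul_assoc, map_mul, hm k, mul_zero, map_zero]

theorem evB_surjective (β : D.J) (g : Γ(S, D.U β)) : Function.Surjective (D.evB β g) := by
  intro s
  have hV : IsAffineOpen (S.basicOpen g) := (D.affine β).basicOpen g
  refine AddMonoidHom.mem_range.1 (D.mem_of_local hV (D.evB β g).toAddMonoidHom.range
    (fun a t ht => ?_) (s := s) fun x hx => ?_)
  · obtain ⟨p, rfl⟩ := ht
    refine ⟨C a * p, ?_⟩
    change D.evB β g (C a * p) = D.strS _ a * D.evB β g p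
    rw [map_mul, evB_C]
  · obtain ⟨g₁, hxg₁, hle₁, p₁, hp₁⟩ := D.exists_rep s.2 hx β (S.basicOpen_le g hx)
    let r : Γ(S, S.basicOpen g) := rX (S.basicOpen_le g) g₁
    have hr : S.basicOpen r ≤ S.basicOpen g₁ := (basicOpen_rX _ g₁).le.trans inf_le_right
    refine ⟨r, (basicOpen_rX _ g₁).ge ⟨hx, hxg₁⟩, ?_⟩
    obtain ⟨m, p, hp⟩ := exists_polyRes_eq hV r (polyRes hr p₁)
    have h0 : D.sres (S.basicOpen_le r) (D.strS _ r ^ m * s - D.evB β g p) = 0 := by
      refine Subtype.ext ?_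
      show ares (S.basicOpen_le r) (strA (S.basicOpen g) r ^ m * s.1 -
        ev (S.basicOpen g) (fun k => vres (S.basicOpen_le g) ((D.sys β).c k)) p) = 0
      have e := congrArg (ares hr) hp₁
      rw [ev_res, ares_ares] at e
      simp only [vres_vres] at e
      rw [map_sub, ev_res, hp, map_mul, map_mul, map_pow, ← e, map_pow, ares_strA, map_pow,
        show polyRes (S.basicOpen_le r) (C r) = C (rX (S.basicOpen_le r) r) from map_C _ _, ev_C]
      simp only [vres_vres]
      exact sub_self _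
    obtain ⟨m', hm'⟩ := D.exists_pow_kill hV r _ h0
    refine ⟨m' + m, AddMonoidHom.mem_range.2 ⟨C r ^ m' * p, ?_⟩⟩
    rw [mul_sub, sub_eq_zero] at hm'
    show D.evB β g (C r ^ m' * p) = _
    rw [map_mul, map_pow, evB_C, ← hm', ← mul_assoc, ← pow_add]

theorem exists_res_eq {U : S.Opens} (hU : IsAffineOpen U) (r : Γ(S, U)) (t : D.sect (S.basicOpen r)) :
    ∃ (m : ℕ) (s : D.sect U),
      D.sres (S.basicOpen_le r) s = D.sres (S.basicOpen_le r) (D.strS U r) ^ m * t := by
  classical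
  obtain ⟨M, g, β, g', he, hrep, hcov⟩ := D.exists_adapted hU 0
  have hle : ∀ k, S.basicOpen (g' k) ≤ U := fun k => (he k).ge.trans (S.basicOpen_le _)
  have hlr : ∀ k, S.basicOpen (rX (hle k) r) ≤ S.basicOpen r := fun k => (basicOpen_rX _ r).le.trans inf_le_right
  have key : ∀ k, ∃ (m : ℕ) (sk : D.sect (S.basicOpen (g' k))),
      D.sres (S.basicOpen_le (rX (hle k) r)) sk =
        D.sres (hlr k) (D.sres (S.basicOpen_le r) (D.strS U r) ^ m * t) := by
    intro k
    obtain ⟨g₂, hg₂⟩ := (D.affine (β k)).basicOpen_basicOpen_is_basicOpen (g' k) (rX (hle k) r)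
    obtain ⟨q, hq⟩ := D.evB_surjective (β k) g₂ (D.sres (hg₂.le.trans (hlr k)) t)
    obtain ⟨m, p, hp⟩ := exists_polyRes_eq ((D.affine (β k)).basicOpen (g' k)) (rX (hle k) r) (polyRes hg₂.ge q)
    refine ⟨m, D.evB (β k) (g' k) p, Subtype.ext ?_⟩
    show ares (S.basicOpen_le (rX (hle k) r))
      (ev (S.basicOpen (g' k)) (fun j => vres (S.basicOpen_le (g' k)) ((D.sys (β k)).c j)) p) =
        ares (hlr k) (ares (S.basicOpen_le r) (strA U r) ^ m * t.1)
    have e := congrArg (ares hg₂.ge) (congrArg Subtype.val hq)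
    simp only [evB_coe, sres_coe, ev_res, ares_ares, vres_vres] at e
    rw [ev_res, hp, map_mul]
    simp only [vres_vres]
    rw [e, map_mul, map_pow, map_pow, map_pow, polyRes, map_C, ev_C, ares_strA, ares_strA, rX_rX, rX_rX]
  choose m sk hsk using key
  let N := Finset.univ.sup m
  let s' : ∀ k, D.sect (S.basicOpen (g' k)) := fun k => D.strS _ (rX (hle k) r) ^ (N - m k) * sk k
  have hs' : ∀ k, D.sres (S.basicOpen_le (rX (hle k) r)) (s' k) =
      D.sres (hlr k) (D.sres (S.basicOpen_le r) (D.strS U r) ^ N * t) := fun k => by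
    simp only [s', map_mul, map_pow, hsk k, sres_strS, rX_rX]
    rw [← mul_assoc, ← pow_add, Nat.sub_add_cancel (Finset.le_sup (f := m) (Finset.mem_univ k))]
  have key2 : ∀ q : Fin M × Fin M, ∃ e : ℕ,
      D.strS _ (rX (inf_le_left.trans (hle q.1) : S.basicOpen (g' q.1) ⊓ S.basicOpen (g' q.2) ≤ U) r) ^ e *
        (D.sres (inf_le_left : S.basicOpen (g' q.1) ⊓ S.basicOpen (g' q.2) ≤ _) (s' q.1) -
          D.sres (inf_le_right : S.basicOpen (g' q.1) ⊓ S.basicOpen (g' q.2) ≤ _) (s' q.2)) = 0 := by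
    rintro ⟨k, l⟩
    have haff : IsAffineOpen (S.basicOpen (g' k) ⊓ S.basicOpen (g' l)) := by
      rw [← he k, ← he l, ← Scheme.basicOpen_mul]; exact hU.basicOpen _
    refine D.exists_pow_kill haff _ _ ?_
    rw [map_sub, sub_eq_zero, sres_sres, sres_sres]
    have hk : S.basicOpen (rX (inf_le_left.trans (hle k) : S.basicOpen (g' k) ⊓ S.basicOpen (g' l) ≤ U) r) ≤
        S.basicOpen (rX (hle k) r) := by
      rw [basicOpen_rX, basicOpen_rX]; exact inf_le_inf_right _ inf_le_left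
    have hl : S.basicOpen (rX (inf_le_left.trans (hle k) : S.basicOpen (g' k) ⊓ S.basicOpen (g' l) ≤ U) r) ≤
        S.basicOpen (rX (hle l) r) := by
      rw [basicOpen_rX, basicOpen_rX]; exact inf_le_inf_right _ inf_le_right
    have e1 := congrArg (D.sres hk) (hs' k)
    have e2 := congrArg (D.sres hl) (hs' l)
    rw [sres_sres, sres_sres] at e1 e2
    exact e1.trans e2.symm
  choose e' he'' using key2
  let E := Finset.univ.sup e'
  obtain ⟨s, hs⟩ := D.exists_glue hle (hcov.trans (iSup_mono fun k => (he k).le))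
    (fun k => D.strS _ (rX (hle k) r) ^ E * s' k) fun k l => by
      obtain ⟨c, hc⟩ := Nat.exists_eq_add_of_le (Finset.le_sup (f := e') (Finset.mem_univ ((k, l) : Fin M × Fin M)))
      simp only [map_mul, map_pow, sres_strS, rX_rX]
      rw [← sub_eq_zero, ← mul_sub, show E = e' (k, l) + c from hc, pow_add, mul_comm (_ ^ e' (k, l)) (_ ^ c),
        mul_assoc, he'' (k, l), mul_zero]
  refine ⟨E + N, s, D.ext_cover hlr ?_ fun k => ?_⟩
  · intro x hx
    obtain ⟨k, hk⟩ := Opens.mem_iSup.1 (hcov (S.basicOpen_le r hx))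
    exact Opens.mem_iSup.2 ⟨k, (basicOpen_rX _ r).ge ⟨(he k).le hk, hx⟩⟩
  · have e1 := congrArg (D.sres (S.basicOpen_le (rX (hle k) r))) (hs k)
    rw [sres_sres, map_mul, hs' k] at e1
    rw [sres_sres, e1]
    simp only [map_mul, map_pow, sres_strS, rX_rX, pow_add]
    ring

theorem isQC : RelSpec.IsQC D.presheaf D.str := by
  intro U hU r
  let := (D.presheaf.map (homOfLE (S.basicOpen_le r)).op).hom.toAlgebra
  refine IsLocalization.Away.mk (r := (D.str.app (op U)).hom r) ?_ ?_ ?_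
  · show IsUnit (D.sres (S.basicOpen_le r) (D.strS U r))
    rw [sres_strS]
    exact (RingedSpace.isUnit_res_basicOpen _ r).map (D.strS (S.basicOpen r))
  · intro (t : D.sect (S.basicOpen r))
    obtain ⟨m, s, hs⟩ := D.exists_res_eq hU r t
    refine ⟨m, s, ?_⟩
    show t * D.sres (S.basicOpen_le r) (D.strS U r) ^ m = D.sres (S.basicOpen_le r) s
    rw [hs]
    exact mul_comm _ _
  · intro (a : D.sect U) (b : D.sect U) hab
    obtain ⟨m, hm⟩ := D.exists_pow_kill hU r (a - b) ((map_sub (D.sres _) a b).trans (sub_eq_zero.2 hab))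
    rw [mul_sub, sub_eq_zero] at hm
    exact ⟨m, hm⟩

end PData

end Groth.Agent.Lib.PProj
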